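import Groth.Agent.L29.DCoh.Cpt.Vanish
import Groth.Agent.L29.DCoh.QCohColim
import Groth.Agent.L29.DCoh.QCohTensor
import Groth.Agent.L29.DCoh.TildeD
import Groth.Agent.L17.CoverVanishing

/-!
Maps out of perfect complexes into `D_QCoh` on quasi-compact quasi-separated schemes.
-/

set_option autoImplicit false
set_option backward.defeqAttrib.useBackward true
set_option backward.isDefEq.respectTransparency false
set_option backward.isDefEq.respectTransparency.types false

universe u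

open CategoryTheory CategoryTheory.Limits AlgebraicGeometry TopologicalSpace Opposite DerivedCategory

attribute [local instance] HasDerivedCategory.standard

namespace Groth.L29.DC.Cpt

open Groth.L10

variable {X : Scheme.{u}} [CompactSpace X] [QuasiSeparatedSpace X]

local notation "tt" => DerivedCategory.TStructure.t

theorem exists_small_free_top :
    ∃ d : ℕ, ∀ M : X.Modules, Coh.IsQCoh M → TowerStab.Small d (QRlim.free X (⊤ : X.Opens)) M := by
  obtain ⟨_, _, _⟩ := Groth.L10.ModRDer.insts X.sheaf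
  obtain ⟨d, hd⟩ := Groth.L17.exists_bound_qcqs (⊤ : X.Opens) (by simpa using isCompact_univ)
  refine ⟨d, fun M hM => SiteCover.small_of_HU X.sheaf (⊤ : X.Opens) M d fun k hk => ?_⟩
  haveI := hM
  exact subsingleton_of_forall_eq 0 (hd M k hk.le)

/-- bounded cohomological dimension kills maps from the unit to very negative objects of `D_QCoh` -/
theorem unit_hom_zero_qcoh :
    ∃ N : ℤ, ∀ (L : DCoh.D X) (c : ℤ), DCoh.IsQCohD L → L.IsLE c → c ≤ N →
      ∀ g : DCoh.toD X (RHom.O0 X) ⟶ L, g = 0 := by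
  obtain ⟨d, hd⟩ := exists_small_free_top (X := X)
  refine ⟨-((d : ℤ) + 3), fun L c hL hc hcN g => ?_⟩
  haveI := QRlim.enoughKInj X
  haveI := TildeD.hasProducts X fun n : ℕ => ((tt).truncGE (-(n : ℤ))).obj L
  obtain ⟨e₀⟩ := nonempty_free_top (X := X)
  let S0 := singleFunctor X.Modules 0
  let Qf := QRlim.free X (⊤ : X.Opens)
  have hS : ∀ i, TowerStab.Small d Qf ((homologyFunctor X.Modules i).obj L) := fun i => hd _ (hL i)
  let e := (shiftFunctorZero (DCoh.D X) ℤ).app (S0.obj Qf)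
  have hb := TowerStab.bijective_rlim (QRlim.isRlimVia hL) (S0.obj Qf) (d + 2) (fun n hn => by
      have h := TowerStab.bijective_tr L hS 0 n (by omega)
      refine ⟨fun a b hab => (cancel_epi e.hom).1 (h.injective ?_), fun b => ?_⟩
      · simpa only [Category.assoc] using congrArg (e.hom ≫ ·) hab
      · obtain ⟨x, hx⟩ := h.surjective (e.hom ≫ b)
        exact ⟨e.inv ≫ x, by simp only [Category.assoc] at hx ⊢; rw [hx, Iso.inv_hom_id_assoc]⟩)
    (fun n hn => (TowerStab.bijective_tr L hS 1 n (by omega)).surjective)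
  have hz : IsZero (((tt).truncGE (-((d + 2 : ℕ) : ℤ))).obj L) := by
    haveI : (tt).IsLE L c := hc
    haveI : (tt).IsLE L ((-((d + 2 : ℕ) : ℤ)) - 1) := (tt).isLE_of_le L c _ (by omega)
    exact ((tt).isLE_iff_isZero_truncGE_obj ((-((d + 2 : ℕ) : ℤ)) - 1) (-((d + 2 : ℕ) : ℤ)) (by omega) L).1 inferInstance
  let eO : DCoh.toD X (RHom.O0 X) ≅ S0.obj Qf :=
    ((singleFunctorIsoCompQ X.Modules 0).app (Coh.structureModule X)).symm ≪≫ S0.mapIso e₀.symm
  rw [← cancel_epi eO.inv, comp_zero]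
  exact hb.injective (hz.eq_of_tgt _ _)

/-- very negative objects of `D_QCoh` receive no maps from a perfect complex -/
theorem exists_hom_zero {K : DCoh.D X} (hK : DCoh.IsPerfect K) :
    ∃ c : ℤ, ∀ L : DCoh.D X, DCoh.IsQCohD L → L.IsLE c → ∀ g : K ⟶ L, g = 0 := by
  obtain ⟨N, hN⟩ := unit_hom_zero_qcoh (X := X)
  obtain ⟨c₀, D, _, hDf, hDp, hv⟩ := hom_zero_of_unit hK DCoh.IsQCohD N (fun L hL hle g => hN L N hL hle le_rfl g)
  exact ⟨c₀, fun L hL hle g => hv L hle (isQCohD_LTensorCx D (PCQCoh.isQCohD_of_perfect hDp) hL) g⟩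

omit [CompactSpace X] [QuasiSeparatedSpace X] in
theorem isQCohD_truncLT {L : DCoh.D X} (hL : DCoh.IsQCohD L) (b : ℤ) :
    DCoh.IsQCohD (((tt).truncLT b).obj L) := fun i => by
  by_cases hi : i < b
  · have := Groth.L10.isIso_H_ι b i hi L
    exact isQCoh_of_iso' (asIso ((homologyFunctor X.Modules i).map (((tt).truncLTι b).app L))).symm (hL i)
  · exact isQCoh_of_isZero (Groth.L10.isZero_H_LT b i (by omega) L)

/-- perfect complexes are compact in `D_QCoh` -/
theorem isFin_qcoh {K : DCoh.D X} (hK : DCoh.IsPerfect K) {I : Type u} (C : I → CochainComplex X.Modules ℤ)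
    [HasCoproduct C] (hC : ∀ i, DCoh.IsQCohD (DCoh.toD X (C i))) (φ : K ⟶ Q.obj (∐ C)) : IsFin C φ := by
  haveI := Groth.L00.Tensor.grothendieckAbelian_modules X
  obtain ⟨c₀, hv⟩ := exists_hom_zero hK
  have hs := small_of_isPerfect hK
  have hsum : DCoh.IsQCohD (Q.obj (∐ C)) := by
    obtain ⟨h1⟩ := RpushColim.isColimit_Q_cofan C
    haveI : HasCoproduct fun i => Q.obj (C i) := ⟨⟨⟨_, h1⟩⟩⟩
    exact isQCohD_of_iso (h1.coconePointUniqueUpToIso (coproductIsCoproduct fun i => Q.obj (C i))).symm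
      (QCohColim.isQCohD_coproduct _ hC)
  refine isFin_of_vanish hs C (c₀ + 1) (fun i g => ?_)
    (fun g => hv _ (isQCohD_truncLT hsum _) ((tt).isLE_truncLT_obj _ _ _ (by omega)) g) φ
  haveI : (tt).IsLE (((tt).truncLT (c₀ + 1)).obj (DCoh.toD X (C i))) c₀ := (tt).isLE_truncLT_obj _ _ _ (by omega)
  haveI : (tt).IsLE ((((tt).truncLT (c₀ + 1)).obj (DCoh.toD X (C i)))⟦(1 : ℤ)⟧) (c₀ - 1) :=
    (tt).isLE_shift _ c₀ 1 (c₀ - 1) (by omega)
  exact hv _ (FiveRight.PD_shift (fun N : X.Modules => Coh.IsQCoh N) (fun e h => isQCoh_of_iso' e h)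
    (isQCohD_truncLT (hC i) _) 1) ((tt).isLE_of_le _ (c₀ - 1) c₀ (by omega)) g

end Groth.L29.DC.Cpt
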