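import Groth.Agent.L29.DCoh.Cpt.QCoh

/-!
Vanishing ranges for maps out of perfect complexes.
-/

set_option autoImplicit false
set_option backward.isDefEq.respectTransparency false
set_option backward.isDefEq.respectTransparency.types false

universe u

open CategoryTheory CategoryTheory.Limits AlgebraicGeometry DerivedCategory Pretriangulated

attribute [local instance] HasDerivedCategory.standard

namespace Groth.L29.DC.Cpt

variable {X : Scheme.{u}} [CompactSpace X] [QuasiSeparatedSpace X]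

local notation "tt" => DerivedCategory.TStructure.t

/-- maps out of a perfect complex only see a range of cohomological degrees -/
theorem exists_range {K : DCoh.D X} (hK : DCoh.IsPerfect K) :
    ∃ a b : ℤ, (∀ L : DCoh.D X, DCoh.IsQCohD L → L.IsLE a → ∀ g : K ⟶ L, g = 0) ∧
      (tt).IsLE K b ∧ ∀ L : DCoh.D X, (tt).IsGE L (b + 1) → ∀ g : K ⟶ L, g = 0 := by
  obtain ⟨a, ha⟩ := exists_hom_zero hK
  obtain ⟨b, hb⟩ := TildeAlg.exists_isZero (m := 0) (pc_of_perfect hK 0)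
  have hle : (tt).IsLE K b := (DerivedCategory.isLE_iff _ _).2 fun i hi => hb i hi.le
  exact ⟨a, b, ha, hle, fun L hL g => (tt).zero_of_isLE_of_isGE g b (b + 1) (by omega) hle hL⟩

omit [CompactSpace X] [QuasiSeparatedSpace X] in
theorem zero_of_shift {P Y : DCoh.D X} {i : ℤ} (h : ∀ g : P ⟶ Y⟦i⟧, g = 0) (φ : P⟦-i⟧ ⟶ Y) : φ = 0 := by
  let e : (P⟦-i⟧)⟦i⟧ ≅ P := (shiftEquiv (DCoh.D X) i).counitIso.app P
  refine (shiftFunctor (DCoh.D X) i).map_injective ?_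
  rw [Functor.map_zero, ← cancel_epi e.inv, comp_zero]
  exact h _

theorem range_vanish {K : DCoh.D X} (hK : DCoh.IsPerfect K) :
    (∃ a b : ℤ, a ≤ b ∧ ∀ L : DCoh.D X, DCoh.IsQCohD L → (∀ i : ℤ, a ≤ i → i ≤ b → IsZero (DCoh.HD L i)) →
      ∀ φ : K ⟶ L, φ = 0) ∧
    ∀ (L : DCoh.D X) (a' b' : ℤ), DCoh.IsQCohD L → L.IsGE a' → L.IsLE b' →
      {n : ℤ | ∃ φ : K ⟶ L⟦n⟧, φ ≠ 0}.Finite := by
  haveI := QRlim.enoughKInj X
  obtain ⟨a₀, bK, ha, -, hb⟩ := exists_range hK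
  refine ⟨⟨min (a₀ + 1) bK, bK, min_le_right _ _, fun L hL hz φ => ?_⟩, fun L a' b' hL hLa hLb => ?_⟩
  · let a := min (a₀ + 1) bK
    haveI : (tt).IsLE (((tt).truncLT a).obj L) (a - 1) := (tt).isLE_truncLT_obj _ _ _ (by omega)
    have hge : (tt).IsGE (((tt).truncGE a).obj L) (bK + 1) := (DerivedCategory.isGE_iff _ _).2 fun i hi => by
      by_cases hai : a ≤ i
      · have := Groth.L10.isIso_H_π a i hai L
        exact (hz i hai (by omega)).of_iso (asIso ((homologyFunctor X.Modules i).map (((tt).truncGEπ a).app L))).symm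
      · exact Groth.L10.isZero_H_GE a i (by omega) L
    obtain ⟨g, hg⟩ := Triangle.coyoneda_exact₂ _ ((tt).triangleLTGE_distinguished a L) φ (hb _ hge _)
    rw [hg, ha _ (isQCohD_truncLT hL a) ((tt).isLE_of_le _ (a - 1) a₀ (by omega)) g, zero_comp]
  · refine (Set.finite_Icc (a' - bK) (b' - a₀)).subset ?_
    rintro n ⟨φ, hφ⟩
    haveI : (tt).IsGE L a' := hLa
    haveI : (tt).IsLE L b' := hLb
    constructor
    · by_contra h
      haveI : (tt).IsGE (L⟦n⟧) (a' - n) := (tt).isGE_shift L a' n (a' - n) (by omega)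
      exact hφ (hb _ ((tt).isGE_of_ge _ (bK + 1) (a' - n) (by omega)) φ)
    · by_contra h
      haveI : (tt).IsLE (L⟦n⟧) (b' - n) := (tt).isLE_shift L b' n (b' - n) (by omega)
      exact hφ (ha _ (FiveRight.PD_shift (fun N : X.Modules => Coh.IsQCoh N) (fun e h => isQCoh_of_iso' e h) hL n)
        ((tt).isLE_of_le _ (b' - n) a₀ (by omega)) φ)

/-- eventual vanishing only depends on the upper truncation -/
theorem vanish_iff_truncGE {P : DCoh.D X} (hP : DCoh.IsPerfect P) {E : DCoh.D X} (hE : DCoh.IsQCohD E) (a : ℤ) :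
    (∃ N : ℤ, ∀ i : ℤ, N ≤ i → ∀ φ : P⟦-i⟧ ⟶ E, φ = 0) ↔
    (∃ N : ℤ, ∀ i : ℤ, N ≤ i → ∀ φ : P⟦-i⟧ ⟶ ((tt).truncGE a).obj E, φ = 0) := by
  haveI := QRlim.enoughKInj X
  obtain ⟨a₀, bK, ha, -, -⟩ := exists_range hP
  let L := ((tt).truncLT a).obj E
  haveI : (tt).IsLE L (a - 1) := (tt).isLE_truncLT_obj _ _ _ (by omega)
  have hq := FiveRight.PD_shift (fun N : X.Modules => Coh.IsQCoh N) (fun e h => isQCoh_of_iso' e h)
    (isQCohD_truncLT hE a)
  have hz : ∀ (k i : ℤ), a - a₀ - 1 - k ≤ i → ∀ φ : P⟦-i⟧ ⟶ L⟦k⟧, φ = 0 := fun k i hi => zero_of_shift fun g => by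
    haveI : (tt).IsLE (L⟦k⟧) (a - 1 - k) := (tt).isLE_shift L (a - 1) k (a - 1 - k) (by omega)
    haveI : (tt).IsLE ((L⟦k⟧)⟦i⟧) (a - 1 - k - i) := (tt).isLE_shift _ (a - 1 - k) i (a - 1 - k - i) (by omega)
    exact ha _ (FiveRight.PD_shift (fun N : X.Modules => Coh.IsQCoh N) (fun e h => isQCoh_of_iso' e h) (hq k) i)
      ((tt).isLE_of_le _ (a - 1 - k - i) a₀ (by omega)) g
  constructor <;> rintro ⟨N, hN⟩ <;> refine ⟨max N (a - a₀ - 1), fun i hi φ => ?_⟩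
  · obtain ⟨ψ, hψ⟩ := Triangle.coyoneda_exact₃ _ ((tt).triangleLTGE_distinguished a E) φ (hz 1 i (by omega) _)
    rw [hψ, hN i (by omega) ψ, zero_comp]
  · obtain ⟨g, hg⟩ := Triangle.coyoneda_exact₂ _ ((tt).triangleLTGE_distinguished a E) φ (hN i (by omega) _)
    have h0 := hz 0 i (by omega) (g ≫ (shiftFunctorZero (DCoh.D X) ℤ).inv.app L)
    rw [← zero_comp (f := (shiftFunctorZero (DCoh.D X) ℤ).inv.app L), cancel_mono] at h0
    rw [hg, h0, zero_comp]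

/-- eventual vanishing only depends on the lower truncation -/
theorem vanish_iff_truncLE {P : DCoh.D X} (hP : DCoh.IsPerfect P) (E : DCoh.D X) (a : ℤ) :
    (∃ N : ℤ, ∀ i : ℤ, i ≤ N → ∀ φ : P⟦-i⟧ ⟶ E, φ = 0) ↔
    (∃ N : ℤ, ∀ i : ℤ, i ≤ N → ∀ φ : P⟦-i⟧ ⟶ ((tt).truncLE a).obj E, φ = 0) := by
  obtain ⟨a₀, bK, -, hle, -⟩ := exists_range hP
  haveI := hle
  have hT := (tt).triangleLEGE_distinguished a (a + 1) rfl E
  have hge : (tt).IsGE (((tt).truncGE (a + 1)).obj E) (a + 1) := inferInstance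
  have hz : ∀ i, i + bK < a + 1 → ∀ (Y : DCoh.D X), (tt).IsGE Y (a + 1) → ∀ φ : P⟦-i⟧ ⟶ Y, φ = 0 :=
    fun i hi Y hY φ => by
      haveI : (tt).IsLE (P⟦-i⟧) (bK + i) := (tt).isLE_shift P bK (-i) (bK + i) (by omega)
      exact (tt).zero_of_isLE_of_isGE φ (bK + i) (a + 1) (by omega) inferInstance hY
  constructor <;> rintro ⟨N, hN⟩ <;> refine ⟨min N (a - bK - 1), fun i hi φ => ?_⟩
  · obtain ⟨g, hg⟩ := Triangle.coyoneda_exact₂ _ (inv_rot_of_distTriang _ hT) φ (hN i (by omega) _)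
    have h0 : g = 0 := by
      refine hz i (by omega) _ ?_ g
      change (tt).IsGE ((((tt).truncGE (a + 1)).obj E)⟦(-1 : ℤ)⟧) (a + 1)
      haveI : (tt).IsGE ((((tt).truncGE (a + 1)).obj E)⟦(-1 : ℤ)⟧) (a + 2) :=
        (tt).isGE_shift _ (a + 1) (-1) (a + 2) (by omega)
      exact (tt).isGE_of_ge _ (a + 1) (a + 2) (by omega)
    rw [hg, h0, zero_comp]
  · obtain ⟨g, hg⟩ := Triangle.coyoneda_exact₂ _ hT φ (hz i (by omega) _ hge _)
    rw [hg, hN i (by omega) g, zero_comp]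

end Groth.L29.DC.Cpt
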