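import Groth.Agent.L29.DCoh.Cpt.QCoh
import Groth.Agent.L29.K.SmallPerfect
import Groth.Agent.L29.DCoh.TildeAlg
import Groth.Agent.L29.DCoh.RpushQCoh
import Groth.Agent.L10.DerivedAdj
import Groth.Prelude.Def_PerfAux

/-!
Compact objects of `D_QCoh` on a quasi-separated scheme are perfect.
-/

set_option autoImplicit false
set_option backward.defeqAttrib.useBackward true
set_option backward.isDefEq.respectTransparency false
set_option backward.isDefEq.respectTransparency.types false

universe u

open CategoryTheory CategoryTheory.Limits AlgebraicGeometry DerivedCategory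

attribute [local instance] HasDerivedCategory.standard

namespace Groth.L29.DC.Cpt

open Groth.L10

theorem preservesCoproducts_tildeD (R : CommRingCat.{u}) [PreservesFiniteLimits (tilde.functor R)] (ι : Type u) :
    PreservesColimitsOfShape (Discrete ι) (DCoh.tildeD R) := by
  haveI := QRlim.enoughKInj (Spec R)
  haveI : (moduleSpecΓFunctor (R := R)).Additive := tilde.adjunction.right_adjoint_additive
  let F := (moduleSpecΓFunctor (R := R)).mapHomotopyCategory (ComplexShape.up ℤ) ⋙ DerivedCategory.Qh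
  haveI : F.HasRightDerivedFunctor (HomotopyCategory.quasiIso (Spec R).Modules (ComplexShape.up ℤ)) :=
    KInjDerived.hasRightDerivedFunctor F
  let D := DerivedAdj.derived (tilde.adjunction (R := R))
    (F.totalRightDerived DerivedCategory.Qh (HomotopyCategory.quasiIso (Spec R).Modules (ComplexShape.up ℤ)))
    (F.totalRightDerivedUnit DerivedCategory.Qh (HomotopyCategory.quasiIso (Spec R).Modules (ComplexShape.up ℤ)))
  have := D.leftAdjoint_preservesColimits
  infer_instance

variable {X : Scheme.{u}}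

/-- restriction to an open is left adjoint to the derived direct image -/
noncomputable def restrictRpushAdj {U : Scheme.{u}} (j : U ⟶ X) [IsOpenImmersion j]
    [PreservesFiniteLimits (Scheme.Modules.restrictFunctor j)] [DCoh.HasRpush j] :
    DCoh.restrictD j ⊣ DCoh.Rpush j :=
  haveI := QRlim.enoughKInj U
  haveI := Groth.L17.PushQCoh.additive_push j
  DerivedAdj.derived (Scheme.Modules.restrictAdjunction j) (DCoh.Rpush j)
    ((DCoh.pushKh j).totalRightDerivedUnit DerivedCategory.Qh (HomotopyCategory.quasiIso U.Modules (ComplexShape.up ℤ)))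

/-- compact objects of `D_QCoh` are perfect -/
theorem isPerfect_of_compact [QuasiSeparatedSpace X] {K : DCoh.D X} (hK : DCoh.IsQCohD K)
    (h : PerfAux.IsCompactObjRel.{u} (fun L : DCoh.D X => DCoh.IsQCohD L) K) : DCoh.IsPerfect K := by
  classical
  refine perfect_of_on fun x => ?_
  obtain ⟨_, ⟨V, hV, rfl⟩, hxV, -⟩ := X.isBasis_affineOpens.exists_subset_of_mem_open (Set.mem_univ x) isOpen_univ
  let R : CommRingCat.{u} := Γ(X, V)
  let j : Spec R ⟶ X := hV.fromSpec
  obtain ⟨K₀, ⟨e⟩⟩ := (TildeD.isQCohD_iff _).1 (isQCohD_restrictD j hK)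
  have hsmall : Groth.L10.DTen.Small K₀ := fun ι _ Y _ f => by
    haveI := QRlim.enoughKInj X
    haveI := QRlim.enoughKInj (Spec R)
    haveI := RpushQC.hasRpush j
    haveI : QuasiSeparated j := inferInstance
    haveI : QuasiCompact j := inferInstance
    let T := DCoh.tildeD R
    haveI := preservesCoproducts_tildeD R ι
    haveI : HasCoproductsOfShape ι (DCoh.D (Spec R)) :=
      haveI : HasCoproductsOfShape ι (CochainComplex (Spec R).Modules ℤ) := inferInstance
      DerivedProd.hasCoproductsOfShape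
    haveI : HasCoproductsOfShape ι (DCoh.D X) :=
      haveI : HasCoproductsOfShape ι (CochainComplex X.Modules ℤ) := inferInstance
      DerivedProd.hasCoproductsOfShape
    let Rj := DCoh.Rpush j
    let Z : ι → DCoh.D X := fun i => Rj.obj (T.obj (Y i))
    have hq : ∀ i, DCoh.IsQCohD (T.obj (Y i)) := fun i => isQCohD_tildeD _
    have hZ : ∀ i, DCoh.IsQCohD (Z i) := fun i => RpushQC.isQCohD_Rpush j _ (hq i)
    let θ : ∐ (fun i => T.obj (Y i)) ⟶ T.obj (∐ Y) := Sigma.desc fun i => T.map (Sigma.ι Y i)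
    haveI : IsIso θ := by
      have : θ = sigmaComparison T Y := rfl
      rw [this]; infer_instance
    haveI := QCohColim.isIso_sigma_desc j (fun i => T.obj (Y i)) hq
    let β : ∐ Z ⟶ Rj.obj (T.obj (∐ Y)) :=
      Sigma.desc (fun i => Rj.map (Sigma.ι (fun i => T.obj (Y i)) i)) ≫ Rj.map θ
    haveI : IsIso β := inferInstance
    have hβ : ∀ i, Sigma.ι Z i ≫ β = Rj.map (T.map (Sigma.ι Y i)) := fun i => by
      simp [β, θ, Z, ← Functor.map_comp]
    let adj := restrictRpushAdj j
    let a : (DCoh.restrictD j).obj K ⟶ T.obj (∐ Y) := e.inv ≫ T.map f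
    obtain ⟨c, hc⟩ := (h ι Z hZ).surjective (adj.homEquiv _ _ a ≫ inv β)
    have hφ : adj.homEquiv _ _ a = ∑ i ∈ DFinsupp.support c, c i ≫ Rj.map (T.map (Sigma.ι Y i)) := by
      rw [← Category.comp_id (adj.homEquiv _ _ a), ← IsIso.inv_hom_id β, ← Category.assoc, ← hc]
      conv_lhs => rw [← DirectSum.sum_support_of c, map_sum, Preadditive.sum_comp]
      refine Finset.sum_congr rfl fun i _ => ?_
      change (DirectSum.toAddMonoid fun i => Preadditive.rightComp K (Sigma.ι Z i)) (DirectSum.of _ i (c i)) ≫ β = _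
      rw [DirectSum.toAddMonoid_of]
      exact (Category.assoc _ _ _).trans (congrArg (c i ≫ ·) (hβ i))
    haveI := (TildeD.fullyFaithful (R := R)).1
    haveI := (TildeD.fullyFaithful (R := R)).2
    let g : ∀ i, K₀ ⟶ Y i := fun i => T.preimage (e.hom ≫ (adj.homEquiv _ _).symm (c i))
    have hsum : f = ∑ i ∈ DFinsupp.support c, g i ≫ Sigma.ι Y i := by
      refine T.map_injective ?_
      rw [Functor.map_sum]
      have ha : a = (DCoh.restrictD j).map (adj.homEquiv _ _ a) ≫ adj.counit.app _ := by
        exact ((Equiv.symm_apply_apply (adj.homEquiv _ _) a).symm.trans (adj.homEquiv_counit _ _ _))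
      rw [hφ, Functor.map_sum, Preadditive.sum_comp] at ha
      rw [show T.map f = e.hom ≫ a by simp [a], ha, Preadditive.comp_sum]
      refine Finset.sum_congr rfl fun i _ => ?_
      simp only [g]
      rw [Functor.map_comp (self := T), Functor.map_preimage, adj.homEquiv_counit, Category.assoc, Category.assoc,
        Functor.map_comp, Category.assoc]
      exact congrArg (e.hom ≫ (DCoh.restrictD j).map (c i) ≫ ·) (adj.counit.naturality (T.map (Sigma.ι Y i)))
    refine ⟨DFinsupp.support c, fun t ht => ?_⟩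
    rw [hsum, Preadditive.sum_comp]
    refine Finset.sum_congr rfl fun i hi => ?_
    rw [Category.assoc, Groth.L10.DTen.ι_prj, if_pos (ht hi)]
  have hp := isPerfect_of_iso e (TildeAlg.perfect_tilde (Groth.L29.SmallPerfect.isPerfect_of_small hsmall))
  obtain ⟨W, hy, hW⟩ := (isPerfect_iff_wit _).1 hp ((hV.isoSpec).hom ⟨x, hxV⟩)
  refine ⟨_, W.ι ≫ j, inferInstance, mem_opensRange_comp' hy ?_, hW.of_iso ((resTransD j W.ι (W.ι ≫ j) rfl).app K)⟩
  exact congr(($(hV.isoSpec_hom_fromSpec)) ⟨x, hxV⟩)
where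
  mem_opensRange_comp' {V : Scheme.{u}} {W : V.Opens} {j : V ⟶ X} [IsOpenImmersion j] {y : V} {x : X} (hy : y ∈ W)
      (hx : j y = x) : x ∈ (W.ι ≫ j).opensRange := ⟨⟨y, hy⟩, hx⟩

/-- from finite sums to the direct sum map -/
theorem bijective_homSum_rel {K : DCoh.D X} {I : Type u} (M : I → DCoh.D X)
    [HasCoproduct M]
    (h : ∀ [HasCoproduct fun i => Q.objPreimage (M i)] (φ : K ⟶ Q.obj (∐ fun i => Q.objPreimage (M i))),
      IsFin (fun i => Q.objPreimage (M i)) φ) :
    Function.Bijective (PerfAux.homSumToHomCoprod K M) := by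
  classical
  haveI := Groth.L00.Tensor.grothendieckAbelian_modules X
  let M' := M
  let Φ := PerfAux.homSumToHomCoprod K M'
  have hof : ∀ i (g : K ⟶ M' i), Φ (DirectSum.of _ i g) = g ≫ Sigma.ι M' i := fun i g => by
    change (DirectSum.toAddMonoid fun i => Preadditive.rightComp K (Sigma.ι M' i)) (DirectSum.of _ i g) = _
    exact DirectSum.toAddMonoid_of _ _ _
  refine ⟨(injective_iff_map_eq_zero Φ).2 fun x hx => ?_, fun φ => ?_⟩
  · refine DFinsupp.ext fun j => ?_
    let p : ∐ M' ⟶ M' j := Sigma.desc fun i => if h : i = j then eqToHom (congrArg M' h) else 0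
    have hp : ∀ y, Φ y ≫ p = y j := fun y => by
      induction y using DirectSum.induction_on with
      | zero => simp
      | of i g =>
        rw [hof, Category.assoc, Sigma.ι_desc]
        by_cases hij : i = j
        · subst hij
          simp
        · simp [hij, DirectSum.of_eq_of_ne _ _ _ (Ne.symm hij)]
      | add y z hy hz => simp [hy, hz]
    simpa [hx] using (hp x).symm
  · let C := fun i => Q.objPreimage (M i)
    let e := fun i => Q.objObjPreimageIso (M i)
    let θ : ∐ M' ⟶ Q.obj (∐ C) := Sigma.desc fun i => (e i).inv ≫ Q.map (Sigma.ι C i)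
    obtain ⟨h1⟩ := RpushColim.isColimit_Q_cofan C
    let θ' : Q.obj (∐ C) ⟶ ∐ M' := Cofan.IsColimit.desc h1 fun i => (e i).hom ≫ Sigma.ι M' i
    have hθ' : ∀ i, Q.map (Sigma.ι C i) ≫ θ' = (e i).hom ≫ Sigma.ι M' i := fun i =>
      Cofan.IsColimit.fac h1 _ i
    have hid : θ ≫ θ' = 𝟙 _ := Sigma.hom_ext _ _ fun i => by
      simp only [θ, Sigma.ι_desc_assoc, Category.assoc, hθ', Iso.inv_hom_id_assoc, Category.comp_id]
    obtain ⟨s, ψ, hψ⟩ := h (φ ≫ θ)
    refine ⟨∑ i ∈ s, DirectSum.of (fun i => K ⟶ M' i) i (ψ i ≫ (e i).hom), ?_⟩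
    rw [map_sum, ← Category.comp_id φ, ← hid, ← Category.assoc, hψ, Preadditive.sum_comp]
    refine Finset.sum_congr rfl fun i _ => ?_
    exact (hof _ _).trans ((Category.assoc _ _ _).trans ((congrArg (ψ i ≫ ·) (hθ' i).symm).trans (Category.assoc _ _ _).symm))

end Groth.L29.DC.Cpt
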