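import Groth.Agent.L29.DCoh.Cpt.Small
import Groth.Agent.L29.DCoh.BoundedInjRes
import Groth.Agent.L29.DCoh.HomologyColim
import Groth.Agent.L29.DCoh.QRlim
import Groth.Agent.L09.CohColim.Opens
import Groth.Agent.L17.ToAbRpush
import Groth.Agent.L17.AcyclicMap
import Groth.Agent.L10.SiteCover
import Groth.Agent.L15.KFlatSite.ToSheafColim
import Mathlib.CategoryTheory.Limits.Constructions.Filtered

/-!
`j_! O_V` is small for quasi-compact quasi-separated `V`.
-/

set_option autoImplicit false
set_option backward.defeqAttrib.useBackward true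
set_option backward.isDefEq.respectTransparency false
set_option backward.isDefEq.respectTransparency.types false

universe u

open CategoryTheory CategoryTheory.Limits AlgebraicGeometry TopologicalSpace Opposite DerivedCategory
open CoproductsFromFiniteFiltered

attribute [local instance] HasDerivedCategory.standard

namespace Groth.L29.DC.Cpt

open Groth.L17

variable {X : Scheme.{u}} {V : X.Opens}

/-- sections over `V` of abelian sheaves -/
noncomputable abbrev secAb (V : X.Opens) :
    Sheaf (Opens.grothendieckTopology X) AddCommGrpCat.{u} ⥤ AddCommGrpCat.{u} :=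
  sheafToPresheaf _ _ ⋙ (evaluation _ _).obj (op V)

/-- morphisms out of the free module on `V` -/
noncomputable abbrev homFree (V : X.Opens) : X.Modules ⥤ AddCommGrpCat.{u} :=
  preadditiveCoyoneda.obj (op (QRlim.free X V))

/-- they are sections -/
noncomputable def homFreeIso (V : X.Opens) : homFree V ≅ toAbShF X ⋙ secAb V :=
  NatIso.ofComponents (fun M => AddEquiv.toAddCommGrpIso (AddEquiv.mk' (Groth.L10.SiteCover.sec X.sheaf V M)
    (fun a b => by
      have key : ∀ c : QRlim.free X V ⟶ M, Groth.L10.SiteCover.sec X.sheaf V M c =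
          ((toAbShF X).map c).hom.app (op V) (Groth.L10.SiteCover.sec X.sheaf V (QRlim.free X V) (𝟙 _)) :=
        fun c => (congrArg _ (Category.id_comp c).symm).trans (Groth.L10.SiteCover.sec_comp X.sheaf V _ c)
      refine (key (a + b)).trans (Eq.trans ?_ (congrArg₂ (· + ·) (key a) (key b)).symm)
      rw [Functor.map_add]
      rfl)))
    fun {M N} g => AddCommGrpCat.hom_ext (AddMonoidHom.ext fun a => Groth.L10.SiteCover.sec_comp X.sheaf V a g)

theorem nonempty_rightDerived_secAb (V : X.Opens) (q : ℕ) :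
    Nonempty ((secAb V).rightDerived q ≅
      (Sheaf.cohomologyPresheafFunctor (Opens.grothendieckTopology X) q).flip.obj (op V)) := by
  obtain ⟨a⟩ := Groth.L09.CohColim.nonempty_rightDerived_comp_natIso
    (sheafToPresheaf (Opens.grothendieckTopology X) AddCommGrpCat.{u}) ((evaluation _ _).obj (op V)) q
  obtain ⟨b⟩ := Groth.L09.CohColim.nonempty_rightDerived_natIso' (J := Opens.grothendieckTopology X) q
  exact ⟨a ≪≫ Functor.isoWhiskerRight b _⟩

theorem isZero_secAb_injective (V : X.Opens) (Q : X.Modules) [Injective Q] (q : ℕ) (hq : 0 < q) :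
    IsZero (((secAb V).rightDerived q).obj ((toAbShF X).obj Q)) := by
  obtain ⟨e⟩ := nonempty_rightDerived_secAb V q
  obtain ⟨k, rfl⟩ : ∃ k, q = k + 1 := ⟨q - 1, by omega⟩
  refine IsZero.of_iso ?_ (e.app _)
  haveI : Subsingleton (((Sheaf.cohomologyPresheafFunctor (Opens.grothendieckTopology X) (k + 1)).flip.obj (op V)).obj
      ((toAbShF X).obj Q)) := subsingleton_ext_fs_of_injective Q V k
  exact AddCommGrpCat.isZero_of_subsingleton _

theorem rAcyclic_homFree [HasInjectiveResolutions X.Modules] (V : X.Opens) (M : X.Modules)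
    (h : ∀ q : ℕ, 0 < q →
      IsZero (((Sheaf.cohomologyPresheafFunctor (Opens.grothendieckTopology X) q).flip.obj (op V)).obj
        ((toAbShF X).obj M))) : GrothSS.RAcyclic (homFree V) M := fun q hq => by
  letI := HasDerivedCategory.standard (Sheaf (Opens.grothendieckTopology X) AddCommGrpCat.{u})
  obtain ⟨e⟩ := GrothSS.nonempty_rightDerived_exact_comp (toAbShF X) (secAb V)
    (fun Q hQ q hq => isZero_secAb_injective V Q q hq) M q
  obtain ⟨e'⟩ := nonempty_rightDerived_secAb V q
  exact (h q hq).of_iso ((Groth.L10.SiteCoh.rightDerivedCongr (homFreeIso V) q).app M ≪≫ e ≪≫ e'.app _)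

variable (hc : IsCompact (V : Set X)) (hqs : IsQuasiSeparated (V : Set X)) (J : Type u) [SmallCategory J] [IsFiltered J]

include hc hqs in
theorem preservesColimits_homFree : PreservesColimitsOfShape J (homFree V) := by
  haveI := Groth.L09.CohColim.preservesColimitsOfShape_H hc hqs J 0
  obtain ⟨e⟩ := nonempty_rightDerived_secAb V 0
  haveI : PreservesColimitsOfShape J (secAb V) :=
    preservesColimitsOfShape_of_natIso (e.symm ≪≫ (secAb V).rightDerivedZeroIsoSelf)
  haveI : PreservesColimitsOfSize.{u, u} (toAbShF X) := Groth.L15.KFlatSite.preservesColimits_toSheaf X.ringCatSheaf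
  exact preservesColimitsOfShape_of_natIso (homFreeIso V).symm

include hc hqs in
theorem rAcyclic_homFree_colimit [HasInjectiveResolutions X.Modules] (D : J ⥤ X.Modules) (c : Cocone D)
    (hcol : IsColimit c) (hD : ∀ j, Injective (D.obj j)) : GrothSS.RAcyclic (homFree V) c.pt := by
  refine rAcyclic_homFree V _ fun q hq => ?_
  haveI : PreservesColimitsOfSize.{u, u} (toAbShF X) := Groth.L15.KFlatSite.preservesColimits_toSheaf X.ringCatSheaf
  haveI := Groth.L09.CohColim.preservesColimitsOfShape_H hc hqs J q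
  refine IsColimit.isZero_pt (isColimitOfPreserves ((Sheaf.cohomologyPresheafFunctor
    (Opens.grothendieckTopology X) q).flip.obj (op V)) (isColimitOfPreserves (toAbShF X) hcol))
    (Functor.isZero _ fun j => ?_)
  obtain ⟨k, rfl⟩ : ∃ k, q = k + 1 := ⟨q - 1, by omega⟩
  haveI := hD j
  have hs : Subsingleton (((Sheaf.cohomologyPresheafFunctor (Opens.grothendieckTopology X) (k + 1)).flip.obj (op V)).obj
      ((toAbShF X).obj (D.obj j))) := subsingleton_ext_fs_of_injective (D.obj j) V k
  exact @AddCommGrpCat.isZero_of_subsingleton _ hs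

/-- lifting through a quasi-isomorphism of acyclic complexes -/
theorem exists_lift_single {A : Type*} [Category A] [Abelian A] {P : A} {d I : CochainComplex A ℤ} (j : d ⟶ I)
    (q : ℤ) (hC : (((preadditiveCoyoneda.obj (op P)).mapHomologicalComplex (ComplexShape.up ℤ)).obj
      (CochainComplex.mappingCone j)).ExactAt q)
    (x : P ⟶ I.X q) (hx : x ≫ I.d q (q + 1) = 0) :
    ∃ (y : P ⟶ d.X q) (z : P ⟶ I.X (q - 1)), y ≫ d.d q (q + 1) = 0 ∧ y ≫ j.f q + z ≫ I.d (q - 1) q = x := by
  open CochainComplex.mappingCone in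
  rw [HomologicalComplex.exactAt_iff' _ (q - 1) q (q + 1) (by simp) (by simp), ShortComplex.ab_exact_iff] at hC
  open CochainComplex.mappingCone in
  obtain ⟨w, hw⟩ := hC (x ≫ (inr j).f q) (by
    change (x ≫ (inr j).f q) ≫ (CochainComplex.mappingCone j).d q (q + 1) = 0
    rw [Category.assoc, inr_f_d, reassoc_of% hx, zero_comp])
  change P ⟶ (CochainComplex.mappingCone j).X (q - 1) at w
  change w ≫ (CochainComplex.mappingCone j).d (q - 1) q = x ≫ (CochainComplex.mappingCone.inr j).f q at hw
  open CochainComplex.mappingCone in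
  refine ⟨w ≫ (fst j).1.v (q - 1) q (by omega), w ≫ (snd j).v (q - 1) (q - 1) (add_zero _), ?_, ?_⟩
  · open CochainComplex.mappingCone in
    have h := hw =≫ (fst j).1.v q (q + 1) rfl
    rw [Category.assoc, d_fst_v j (q - 1) q (q + 1) (by omega) rfl, Category.assoc, inr_f_fst_v,
      comp_zero, Preadditive.comp_neg, neg_eq_zero] at h
    rw [Category.assoc]
    exact h
  · open CochainComplex.mappingCone in
    have h := hw =≫ (snd j).v q q (add_zero _)
    rw [Category.assoc, d_snd_v j (q - 1) q (by omega), Category.assoc, inr_f_snd_v, Category.comp_id,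
      Preadditive.comp_add] at h
    simp only [Category.assoc]
    exact h

variable {J}

include hc hqs in
theorem exists_factor_single [HasInjectiveResolutions X.Modules] (C : J ⥤ CochainComplex X.Modules ℤ)
    (c : Cocone C) (hcol : IsColimit c) (n : ℤ) (hC : ∀ j, (DCoh.toD X (C.obj j)).IsGE n) (q : ℤ)
    (φ : Q.obj ((HomologicalComplex.single X.Modules (ComplexShape.up ℤ) q).obj (QRlim.free X V)) ⟶ Q.obj c.pt) :
    ∃ (s : J) (ψ : Q.obj ((HomologicalComplex.single X.Modules (ComplexShape.up ℤ) q).obj (QRlim.free X V)) ⟶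
      Q.obj (C.obj s)), φ = ψ ≫ Q.map (c.ι.app s) := by
  haveI := Groth.L00.Tensor.grothendieckAbelian_modules X
  haveI : EnoughInjectives X.Modules := (Groth.L10.ModRDer.insts X.sheaf).1
  let F := homFree V
  haveI := preservesColimits_homFree hc hqs J
  haveI : PreservesFiniteLimits F := inferInstance
  obtain ⟨R, r, hR⟩ := BddInjRes.exists_functorial (A := X.Modules) n
  have hex : ∀ j i, i < n → (C.obj j).ExactAt i := fun j i hi => by
    rw [HomologicalComplex.exactAt_iff_isZero_homology]
    haveI := hC j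
    exact (DerivedCategory.isZero_of_isGE (DCoh.toD X (C.obj j)) n i hi).of_iso
      ((DerivedCategory.homologyFunctorFactors X.Modules i).app (C.obj j)).symm
  have hq : ∀ j, QuasiIso (r.app (C.obj j)) ∧ ∀ k, Injective ((R.obj (C.obj j)).X k) := fun j =>
    (hR (C.obj j)).2 (hex j)
  let ρ : C ⟶ C ⋙ R := Functor.whiskerLeft C r
  let d := colimit.cocone (C ⋙ R)
  let θ : c.pt ⟶ d.pt := hcol.desc ((Cocone.precompose ρ).obj d)
  have hθ : ∀ j, c.ι.app j ≫ θ = ρ.app j ≫ d.ι.app j := fun j => hcol.fac _ j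
  haveI : QuasiIso θ := by
    rw [quasiIso_iff]
    intro i
    rw [quasiIsoAt_iff_isIso_homologyMap]
    haveI := HomologyColim.preservesColimitsOfShape_homology (A := X.Modules) (J := J) (ComplexShape.up ℤ) i
    let H := HomologicalComplex.homologyFunctor X.Modules (ComplexShape.up ℤ) i
    haveI : ∀ j, IsIso ((Functor.whiskerRight ρ H).app j) := fun j => by
      haveI : QuasiIso (ρ.app j) := (hq j).1
      exact (quasiIsoAt_iff_isIso_homologyMap _ i).1 inferInstance
    haveI := NatIso.isIso_of_isIso_app (Functor.whiskerRight ρ H)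
    have e : H.map θ = ((isColimitOfPreserves H hcol).coconePointsIsoOfNatIso
        (isColimitOfPreserves H (colimit.isColimit (C ⋙ R))) (asIso (Functor.whiskerRight ρ H))).hom :=
      (isColimitOfPreserves H hcol).hom_ext fun j => by
        rw [IsColimit.comp_coconePointsIsoOfNatIso_hom]
        simp only [Functor.mapCocone_ι_app, asIso_hom, Functor.whiskerRight_app, ← Functor.map_comp]
        exact congrArg H.map (hθ j)
    change IsIso (H.map θ)
    rw [e]
    infer_instance
  have he : ∀ k, IsColimit ((HomologicalComplex.eval X.Modules (ComplexShape.up ℤ) k).mapCocone d) := fun k =>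
    isColimitOfPreserves _ (colimit.isColimit (C ⋙ R))
  haveI : d.pt.IsStrictlyGE (n - 1) := (CochainComplex.isStrictlyGE_iff _ _).2 fun k hk =>
    IsColimit.isZero_pt (he k) (Functor.isZero _ fun j => by
      haveI := (hR (C.obj j)).1
      exact CochainComplex.isZero_of_isStrictlyGE (R.obj (C.obj j)) (n - 1) k hk)
  obtain ⟨I, j, hj, hI, hge⟩ := CochainComplex.Plus.modelCategoryQuillen.exists_quasiIso_injective d.pt (n - 1)
  haveI := hj
  have : ∀ m, Injective (I.X m) := hI
  haveI := CochainComplex.isKInjective_of_injective I (n - 1)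
  let P := QRlim.free X V
  let S := (HomologicalComplex.single X.Modules (ComplexShape.up ℤ) q).obj P
  haveI : IsIso (Q.map j) := (isIso_Q_map_iff_quasiIso _ _).2 inferInstance
  haveI : IsIso (Q.map θ) := (isIso_Q_map_iff_quasiIso _ _).2 inferInstance
  obtain ⟨χ, hχ⟩ := (CochainComplex.IsKInjective.Qh_map_bijective _ I).surjective
    ((quotientCompQhIso X.Modules).hom.app S ≫ (φ ≫ Q.map θ ≫ Q.map j) ≫ (quotientCompQhIso X.Modules).inv.app I)
  obtain ⟨g, rfl⟩ := (HomotopyCategory.quotient _ _).map_surjective χ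
  have hg : Q.map g = φ ≫ Q.map θ ≫ Q.map j := by
    have := (quotientCompQhIso X.Modules).hom.naturality g
    dsimp only [Functor.comp_map] at this
    rw [hχ, Category.assoc, Category.assoc, Iso.inv_hom_id_app] at this
    rw [← cancel_epi ((quotientCompQhIso X.Modules).hom.app S), ← this]
    simp
  let x : P ⟶ I.X q := (HomologicalComplex.singleObjXSelf (ComplexShape.up ℤ) q P).inv ≫ g.f q
  have hx : x ≫ I.d q (q + 1) = 0 := by
    simp [x, S]
  have hac : ∀ k, GrothSS.RAcyclic F (d.pt.X k) := fun k =>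
    rAcyclic_homFree_colimit hc hqs J _ _ (he k) fun j => (hq j).2 k
  haveI := Groth.L17.GrothSS.quasiIso_map F j (n - 1) (n - 1) hac fun k p hp => by
    obtain ⟨l, rfl⟩ : ∃ l, p = l + 1 := ⟨p - 1, by omega⟩
    exact F.isZero_rightDerived_obj_injective_succ l _
  have hcone := ((Groth.L17.GrothSS.quasiIso_iff_cone _).1 this q).of_iso
    (CochainComplex.mappingCone.mapHomologicalComplexIso j F).symm
  obtain ⟨y, z, hy, hyz⟩ := exists_lift_single j q hcone x hx
  have hT : ∀ k, IsColimit ((F ⋙ forget AddCommGrpCat.{u}).mapCocone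
      ((HomologicalComplex.eval X.Modules (ComplexShape.up ℤ) k).mapCocone d)) := fun k =>
    isColimitOfPreserves (forget AddCommGrpCat.{u}) (isColimitOfPreserves F (he k))
  obtain ⟨s₀, y₀, hy₀⟩ := Types.jointly_surjective _ (hT q) y
  change P ⟶ (R.obj (C.obj s₀)).X q at y₀
  change y₀ ≫ (d.ι.app s₀).f q = y at hy₀
  obtain ⟨s, a, b, hab⟩ := (Types.FilteredColimit.isColimit_eq_iff _ (hT (q + 1)) (i := s₀) (j := s₀)
    (xi := y₀ ≫ (R.obj (C.obj s₀)).d q (q + 1)) (xj := (0 : P ⟶ (R.obj (C.obj s₀)).X (q + 1)))).1 (by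
      change (y₀ ≫ (R.obj (C.obj s₀)).d q (q + 1)) ≫ (d.ι.app s₀).f (q + 1) = (0 : P ⟶ _) ≫ _
      exact (Category.assoc _ _ _).trans ((congrArg (y₀ ≫ ·) ((d.ι.app s₀).comm q (q + 1)).symm).trans
        ((Category.assoc _ _ _).symm.trans ((congrArg (· ≫ d.pt.d q (q + 1)) hy₀).trans
          (hy.trans zero_comp.symm)))))
  change (y₀ ≫ (R.obj (C.obj s₀)).d q (q + 1)) ≫ (R.map (C.map a)).f (q + 1) = (0 : P ⟶ _) ≫ _ at hab
  rw [zero_comp, Category.assoc, ← (R.map (C.map a)).comm q (q + 1)] at hab
  let y₁ := y₀ ≫ (R.map (C.map a)).f q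
  let ψ : S ⟶ R.obj (C.obj s) := HomologicalComplex.mkHomFromSingle y₁ (fun k hk => by
    obtain rfl : k = q + 1 := by simp at hk; omega
    simpa [y₁] using hab)
  have hd : (R.map (C.map a)).f q ≫ (d.ι.app s).f q = (d.ι.app s₀).f q := by
    rw [← HomologicalComplex.comp_f]
    exact congrArg (fun t => HomologicalComplex.Hom.f t q) (d.w a)
  let h : ∀ i i', (ComplexShape.up ℤ).Rel i' i → (S.X i ⟶ I.X i') := fun i i' _ =>
    if hi : i = q ∧ i' = q - 1 then
      eqToHom (by rw [hi.1]) ≫ (HomologicalComplex.singleObjXSelf (ComplexShape.up ℤ) q P).hom ≫ z ≫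
        eqToHom (by rw [hi.2])
    else 0
  have hhom : g = ψ ≫ d.ι.app s ≫ j + Homotopy.nullHomotopicMap' h := by
    refine HomologicalComplex.from_single_hom_ext ?_
    rw [← cancel_epi (HomologicalComplex.singleObjXSelf (ComplexShape.up ℤ) q P).inv]
    change x = _
    rw [HomologicalComplex.add_f_apply, Homotopy.nullHomotopicMap'_f (k₂ := q - 1) (k₀ := q + 1) (by simp) (by simp) h]
    simp [h, ψ, y₁, reassoc_of% hd, reassoc_of% hy₀, hyz]
  have hQ : Q.map g = Q.map (ψ ≫ d.ι.app s ≫ j) := by
    rw [hhom, Functor.map_add, add_eq_left]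
    rw [← NatIso.naturality_1 (quotientCompQhIso X.Modules) (Homotopy.nullHomotopicMap' h)]
    have hz : (HomotopyCategory.quotient X.Modules (ComplexShape.up ℤ)).map (Homotopy.nullHomotopicMap' h) = 0 := by
      rw [← (HomotopyCategory.quotient X.Modules (ComplexShape.up ℤ)).map_zero]
      exact HomotopyCategory.eq_of_homotopy _ _ (Homotopy.nullHomotopy' h)
    simp [hz]
  rw [hg] at hQ
  simp only [Functor.map_comp, ← Category.assoc, cancel_mono] at hQ
  haveI : IsIso (Q.map (ρ.app s)) := (isIso_Q_map_iff_quasiIso _ _).2 (hq s).1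
  refine ⟨s, Q.map ψ ≫ inv (Q.map (ρ.app s)), ?_⟩
  rw [← cancel_mono (Q.map θ), hQ, Category.assoc, Category.assoc]
  exact (congrArg (Q.map ψ ≫ ·) ((IsIso.eq_inv_comp _).2
    (((Q.map_comp (c.ι.app s) θ).symm.trans ((congrArg Q.map (hθ s)).trans (Q.map_comp _ _))).symm)))

theorem hasInjectiveResolutions (X : Scheme.{u}) : HasInjectiveResolutions X.Modules :=
  haveI : EnoughInjectives X.Modules := (Groth.L10.ModRDer.insts X.sheaf).1
  inferInstance

theorem finiteSub_ι {I : Type u} (C : I → CochainComplex X.Modules ℤ) [HasCoproduct C]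
    (s : Finset (Discrete I)) :
    ∃ π : ∀ i, (liftToFinsetObj (Discrete.functor C)).obj s ⟶ C i,
      (finiteSubcoproductsCocone C).ι.app s = ∑ x ∈ s, π x.as ≫ Sigma.ι C x.as := by
  classical
  refine ⟨fun i => Sigma.desc fun x => if h : x.1.as = i then eqToHom (congrArg C h) else 0, ?_⟩
  refine Sigma.hom_ext _ _ fun x => ?_
  rw [Preadditive.comp_sum, Finset.sum_eq_single x.1]
  · simp [finiteSubcoproductsCocone]
  · intro y _ hy
    have : ¬ x.1.as = y.as := fun h => hy (Discrete.ext h.symm)
    simp [this]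
  · exact fun h => absurd x.2 h

include hc hqs in
theorem small_free : Small (DCoh.toD X ((HomologicalComplex.single X.Modules (ComplexShape.up ℤ) 0).obj (QRlim.free X V))) := by
  intro I C _ n hC k φ
  classical
  haveI := hasInjectiveResolutions X
  let e : (DCoh.toD X ((HomologicalComplex.single X.Modules (ComplexShape.up ℤ) 0).obj (QRlim.free X V)))⟦k⟧ ≅
      DCoh.toD X ((HomologicalComplex.single X.Modules (ComplexShape.up ℤ) (-k)).obj (QRlim.free X V)) :=
    ((Q.commShiftIso k).app _).symm ≪≫
      Q.mapIso (((CochainComplex.singleFunctors X.Modules).shiftIso k (-k) 0 (by omega)).app (QRlim.free X V))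
  have hJ : ∀ s : Finset (Discrete I), (DCoh.toD X ((liftToFinsetObj (Discrete.functor C)).obj s)).IsGE n := fun s => by
    refine (DerivedCategory.isGE_iff _ _).2 fun i hi => ?_
    haveI := Groth.L00.Tensor.grothendieckAbelian_modules X
    haveI : PreservesFiniteCoproducts (DerivedCategory.Q ⋙ DerivedCategory.homologyFunctor X.Modules i) :=
      inferInstance
    refine IsColimit.isZero_pt (isColimitOfHasCoproductOfPreservesColimit
      (DerivedCategory.Q ⋙ DerivedCategory.homologyFunctor X.Modules i) (fun x : s => C x.1.as))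
      (Functor.isZero _ fun x => ?_)
    exact DerivedCategory.isZero_of_isGE (DCoh.toD X (C x.as.1.as)) n i hi
  obtain ⟨s, ψ, hψ⟩ := exists_factor_single hc hqs (liftToFinsetObj (Discrete.functor C))
    (finiteSubcoproductsCocone C) (isColimitFiniteSubproductsCocone C) n hJ (-k) (e.inv ≫ φ)
  obtain ⟨π, hπ⟩ := finiteSub_ι C s
  refine ⟨s.image Discrete.as, fun i => e.hom ≫ ψ ≫ Q.map (π i), ?_⟩
  rw [(Iso.inv_comp_eq e).1 hψ, hπ, Functor.map_sum, Preadditive.comp_sum, Preadditive.comp_sum,
    Finset.sum_image (fun x _ y _ h => Discrete.ext h)]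
  refine Finset.sum_congr rfl fun x _ => ?_
  simp

end Groth.L29.DC.Cpt
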