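import Groth.Agent.L29.DCoh.ExtZero

/-!
The cut-off `j_! j^*` of modules to an open; the two-open short exact sequence.
-/

set_option autoImplicit false
set_option backward.isDefEq.respectTransparency false
set_option backward.isDefEq.respectTransparency.types false

universe u

open CategoryTheory CategoryTheory.Limits AlgebraicGeometry TopologicalSpace

namespace Groth.L29.DC.Cpt

open Groth.L00 Groth.L29.DC.ExtZero

variable {X : Scheme.{u}}

/-- a module with vanishing restriction has zero stalks there -/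
theorem isZero_stalk_of_res {U : Scheme.{u}} (j : U ⟶ X) [IsOpenImmersion j] (M : X.Modules)
    (h : IsZero ((ExtZero.res j).obj M)) (y : U) : IsZero ((Stk.F X (j y)).obj M) := by
  have h1 := (Stk.F U y).map_isZero (h.of_iso ((Scheme.Modules.restrictFunctorIsoPullback j).app M).symm)
  have h2 : IsZero ((ModuleCat.extendScalars (PullStalk.φ j y)).obj ((Stk.F X (j y)).obj M)) :=
    h1.of_iso ((PullStalk.stalkIso j y).app M).symm
  letI := (PullStalk.φ j y).toAlgebra
  have hs : Subsingleton (TensorProduct (X.presheaf.stalk (j y)) (U.presheaf.stalk y) ((Stk.F X (j y)).obj M)) :=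
    ModuleCat.subsingleton_of_isZero h2
  haveI : Subsingleton ((Stk.F X (j y)).obj M) :=
    (Equiv.subsingleton_congr ((TensorProduct.lid (X.presheaf.stalk (j y)) ((Stk.F X (j y)).obj M)).symm.trans
      (TensorProduct.congr (LinearEquiv.ofBijective (Algebra.linearMap (X.presheaf.stalk (j y)) (U.presheaf.stalk y))
        (ConcreteCategory.bijective_of_isIso (j.stalkMap y))) (LinearEquiv.refl _ _))).toEquiv).2 hs
  exact ModuleCat.isZero_of_subsingleton _

/-- an isomorphism on `U` is an isomorphism on the stalks there -/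
theorem isIso_stalk_of_res {U : Scheme.{u}} (j : U ⟶ X) [IsOpenImmersion j] {M N : X.Modules} (f : M ⟶ N)
    [IsIso ((ExtZero.res j).map f)] (y : U) : IsIso ((Stk.F X (j y)).map f) := by
  haveI : Mono ((Stk.F X (j y)).map f) := Preadditive.mono_of_isZero_kernel _
    ((isZero_stalk_of_res j _ ((isZero_kernel_of_mono ((ExtZero.res j).map f)).of_iso
      (PreservesKernel.iso (ExtZero.res j) f)) y).of_iso (PreservesKernel.iso (Stk.F X (j y)) f).symm)
  haveI : Epi ((Stk.F X (j y)).map f) := Preadditive.epi_of_isZero_cokernel _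
    ((isZero_stalk_of_res j _ ((isZero_cokernel_of_epi ((ExtZero.res j).map f)).of_iso
      (PreservesCokernel.iso (ExtZero.res j) f)) y).of_iso (PreservesCokernel.iso (Stk.F X (j y)) f).symm)
  exact isIso_of_mono_of_epi _

theorem isIso_of_stalks {M N : X.Modules} (f : M ⟶ N) (h : ∀ x, IsIso ((Stk.F X x).map f)) : IsIso f := by
  haveI : Mono f := Preadditive.mono_of_isZero_kernel f ((Stk.isZero_iff _).2 fun x =>
    haveI := h x
    (isZero_kernel_of_mono ((Stk.F X x).map f)).of_iso (PreservesKernel.iso (Stk.F X x) f))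
  haveI : Epi f := Preadditive.epi_of_isZero_cokernel f ((Stk.isZero_iff _).2 fun x =>
    haveI := h x
    (isZero_cokernel_of_epi ((Stk.F X x).map f)).of_iso (PreservesCokernel.iso (Stk.F X x) f))
  exact isIso_of_mono_of_epi f

/-- the cut-off `j_! j^*` -/
noncomputable abbrev cut (W : X.Opens) : X.Modules ⥤ X.Modules := ExtZero.res W.ι ⋙ CxOX.extZero W.ι

/-- the cut-off maps back -/
noncomputable abbrev cε (W : X.Opens) : cut W ⟶ 𝟭 X.Modules := (CxOX.extZeroAdj W.ι).counit

instance isIso_res_cε (W : X.Opens) (M : X.Modules) : IsIso ((ExtZero.res W.ι).map ((cε W).app M)) := by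
  haveI : IsIso ((CxOX.extZeroAdj W.ι).unit.app ((ExtZero.res W.ι).obj M)) := inferInstance
  exact IsIso.of_isIso_fac_left ((CxOX.extZeroAdj W.ι).right_triangle_components M)

theorem isIso_stalk_cε {W : X.Opens} {x : X} (hx : x ∈ W) (M : X.Modules) :
    IsIso ((Stk.F X x).map ((cε W).app M)) :=
  isIso_stalk_of_res W.ι ((cε W).app M) ⟨x, hx⟩

theorem isZero_stalk_cut {W : X.Opens} {x : X} (hx : x ∉ W) (M : X.Modules) :
    IsZero ((Stk.F X x).obj ((cut W).obj M)) :=
  ExtZero.isZero_stalk W.ι (by rintro ⟨y, rfl⟩; exact hx y.2) _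

instance mono_cε (W : X.Opens) (M : X.Modules) : Mono ((cε W).app M) :=
  Preadditive.mono_of_isZero_kernel _ ((Stk.isZero_iff _).2 fun x => by
    refine IsZero.of_iso ?_ (PreservesKernel.iso (Stk.F X x) ((cε W).app M))
    by_cases hx : x ∈ W
    · haveI := isIso_stalk_cε hx M
      exact isZero_kernel_of_mono _
    · exact (isZero_stalk_cut hx M).of_mono (kernel.ι _))

/-- the cut-off to everything is the identity -/
theorem isIso_cε_top (M : X.Modules) : IsIso ((cε (⊤ : X.Opens)).app M) :=
  isIso_of_stalks _ fun _ => isIso_stalk_cε (W := ⊤) trivial M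

theorem isZero_cut {W : X.Opens} {M : X.Modules} (h : ∀ x ∈ W, IsZero ((Stk.F X x).obj M)) :
    IsZero ((cut W).obj M) :=
  (Stk.isZero_iff _).2 fun x => by
    by_cases hx : x ∈ W
    · haveI := isIso_stalk_cε hx M
      exact (h x hx).of_iso (asIso ((Stk.F X x).map ((cε W).app M)))
    · exact isZero_stalk_cut hx M

theorem isIso_cut_map {W : X.Opens} {M N : X.Modules} (f : M ⟶ N) (h : ∀ x ∈ W, IsIso ((Stk.F X x).map f)) :
    IsIso ((cut W).map f) :=
  isIso_of_stalks _ fun x => by
    by_cases hx : x ∈ W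
    · haveI := isIso_stalk_cε hx M
      haveI := isIso_stalk_cε hx N
      haveI := h x hx
      refine IsIso.of_isIso_fac_right (f := (Stk.F X x).map ((cε W).app N))
        (h := (Stk.F X x).map ((cε W).app M) ≫ (Stk.F X x).map f) ?_
      rw [← Functor.map_comp, ← Functor.map_comp]
      exact congrArg _ ((cε W).naturality f)
    · exact ⟨0, (isZero_stalk_cut hx M).eq_of_src _ _, (isZero_stalk_cut hx N).eq_of_src _ _⟩

theorem isIso_cut_cε {W U : X.Opens} (h : W ≤ U) (M : X.Modules) : IsIso ((cut W).map ((cε U).app M)) :=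
  isIso_cut_map _ fun _ hx => isIso_stalk_cε (h hx) M

/-- the maps between cut-offs -/
noncomputable def ctr {W U : X.Opens} (h : W ≤ U) : cut W ⟶ cut U :=
  haveI : ∀ M, IsIso ((Functor.whiskerRight (cε U) (cut W)).app M) := fun M => isIso_cut_cε h M
  haveI := NatIso.isIso_of_isIso_app (Functor.whiskerRight (cε U) (cut W))
  (Functor.leftUnitor _).inv ≫ inv (Functor.whiskerRight (cε U) (cut W)) ≫
    Functor.whiskerLeft (cut U) (cε W) ≫ (Functor.rightUnitor _).hom

@[reassoc]
theorem ctr_app_cε {W U : X.Opens} (h : W ≤ U) (M : X.Modules) :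
    (ctr h).app M ≫ (cε U).app M = (cε W).app M := by
  haveI : ∀ M, IsIso ((Functor.whiskerRight (cε U) (cut W)).app M) := fun M => isIso_cut_cε h M
  haveI := NatIso.isIso_of_isIso_app (Functor.whiskerRight (cε U) (cut W))
  haveI := isIso_cut_cε h M
  rw [← cancel_epi ((cut W).map ((cε U).app M))]
  simp only [ctr, NatTrans.comp_app, NatIso.isIso_inv_app, Functor.whiskerRight_app, Functor.whiskerLeft_app,
    Functor.leftUnitor_inv_app, Functor.rightUnitor_hom_app, Category.id_comp, Category.comp_id,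
    IsIso.hom_inv_id_assoc, Category.assoc]
  exact (((cε W).naturality ((cε U).app M)).symm : _)

theorem isIso_stalk_ctr {W U : X.Opens} (h : W ≤ U) {x : X} (hx : x ∈ U → x ∈ W) (M : X.Modules) :
    IsIso ((Stk.F X x).map ((ctr h).app M)) := by
  by_cases hxW : x ∈ W
  · haveI := isIso_stalk_cε (h hxW) M
    haveI := isIso_stalk_cε hxW M
    exact IsIso.of_isIso_fac_right (f := (Stk.F X x).map ((cε U).app M)) (h := (Stk.F X x).map ((cε W).app M))
      (by rw [← Functor.map_comp, ctr_app_cε])
  · exact ⟨0, (isZero_stalk_cut hxW M).eq_of_src _ _, (isZero_stalk_cut (fun hxU => hxW (hx hxU)) M).eq_of_src _ _⟩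

section MV

variable {W U V T : X.Opens} (hWU : W ≤ U) (hWV : W ≤ V) (hUT : U ≤ T) (hVT : V ≤ T)

theorem ctr_comp_eq (M : X.Modules) :
    (ctr hWU).app M ≫ (ctr hUT).app M = (ctr hWV).app M ≫ (ctr hVT).app M :=
  (cancel_mono ((cε T).app M)).1 (by simp only [Category.assoc, ctr_app_cε])

/-- the two-open sequence of cut-offs -/
noncomputable def mvSeq (M : X.Modules) : ShortComplex X.Modules :=
  ShortComplex.mk (biprod.lift ((ctr hWU).app M) (-(ctr hWV).app M)) (biprod.desc ((ctr hUT).app M) ((ctr hVT).app M))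
    (by rw [biprod.lift_desc, Preadditive.neg_comp, ctr_comp_eq hWU hWV hUT hVT M, add_neg_cancel])

theorem shortExact_mvSeq (hW : U ⊓ V ≤ W) (hT : T ≤ U ⊔ V) (M : X.Modules) :
    (mvSeq hWU hWV hUT hVT M).ShortExact := by
  have main : ∀ x, ((mvSeq hWU hWV hUT hVT M).map (Stk.F X x)).ShortExact := fun x => by
    let F := Stk.F X x
    let S := mvSeq hWU hWV hUT hVT M
    let a₁ := F.map ((ctr hWU).app M)
    let a₂ := F.map ((ctr hWV).app M)
    let b₁ := F.map ((ctr hUT).app M)
    let b₂ := F.map ((ctr hVT).app M)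
    have hc : a₁ ≫ b₁ = a₂ ≫ b₂ := by
      simp only [a₁, a₂, b₁, b₂, ← Functor.map_comp, ctr_comp_eq hWU hWV hUT hVT M]
    let i₁ := F.map (biprod.inl : (cut U).obj M ⟶ (cut U).obj M ⊞ (cut V).obj M)
    let i₂ := F.map (biprod.inr : (cut V).obj M ⟶ (cut U).obj M ⊞ (cut V).obj M)
    let p₁ := F.map (biprod.fst : (cut U).obj M ⊞ (cut V).obj M ⟶ (cut U).obj M)
    let p₂ := F.map (biprod.snd : (cut U).obj M ⊞ (cut V).obj M ⟶ (cut V).obj M)
    have tot : p₁ ≫ i₁ + p₂ ≫ i₂ = 𝟙 _ := by
      simp only [p₁, p₂, i₁, i₂, ← Functor.map_comp, ← Functor.map_add, biprod.total]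
      exact F.map_id _
    have hf : F.map S.f = a₁ ≫ i₁ - a₂ ≫ i₂ := by
      simp only [a₁, a₂, i₁, i₂, ← Functor.map_comp, ← Functor.map_sub]
      congr 1
      change biprod.lift _ _ = _
      rw [biprod.lift_eq]
      simp [sub_eq_add_neg]
    have hg : F.map S.g = p₁ ≫ b₁ + p₂ ≫ b₂ := by
      simp only [b₁, b₂, p₁, p₂, ← Functor.map_comp, ← Functor.map_add]
      congr 1
      change biprod.desc _ _ = _
      rw [biprod.desc_eq]
    have h11 : i₁ ≫ p₁ = 𝟙 _ := by simp [i₁, p₁, ← Functor.map_comp]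
    have h12 : i₁ ≫ p₂ = 0 := by simp [i₁, p₂, ← Functor.map_comp]
    have h21 : i₂ ≫ p₁ = 0 := by simp [i₂, p₁, ← Functor.map_comp]
    have h22 : i₂ ≫ p₂ = 𝟙 _ := by simp [i₂, p₂, ← Functor.map_comp]
    by_cases hxU : x ∈ U
    · haveI : IsIso b₁ := isIso_stalk_ctr hUT (fun _ => hxU) M
      haveI : IsIso a₂ := isIso_stalk_ctr hWV (fun hxV => hW ⟨hxU, hxV⟩) M
      have hcc : inv a₂ ≫ a₁ = b₂ ≫ inv b₁ := by rw [IsIso.inv_comp_eq, ← Category.assoc, IsIso.eq_comp_inv, hc]
      exact ShortComplex.Splitting.shortExact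
        { r := -(p₂ ≫ inv a₂)
          s := inv b₁ ≫ i₁
          f_r := by
            change F.map S.f ≫ (-(p₂ ≫ inv a₂)) = 𝟙 _
            simp [hf, reassoc_of% h12, reassoc_of% h22]
          s_g := by
            change (inv b₁ ≫ i₁) ≫ F.map S.g = 𝟙 _
            simp [hg, reassoc_of% h11, reassoc_of% h12]
          id := by
            have key : (-(p₂ ≫ inv a₂)) ≫ (a₁ ≫ i₁ - a₂ ≫ i₂) + (p₁ ≫ b₁ + p₂ ≫ b₂) ≫ inv b₁ ≫ i₁ = 𝟙 _ := by
              rw [← tot]
              simp only [Preadditive.neg_comp, Preadditive.comp_sub, Preadditive.add_comp, Category.assoc,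
                IsIso.inv_hom_id_assoc, IsIso.hom_inv_id_assoc, reassoc_of% hcc]
              abel
            refine Eq.trans ?_ key
            rw [← hf, ← hg]
            rfl }
    · by_cases hxV : x ∈ V
      · haveI : IsIso b₂ := isIso_stalk_ctr hVT (fun _ => hxV) M
        haveI : IsIso a₁ := isIso_stalk_ctr hWU (fun h => absurd h hxU) M
        have hcc : inv a₁ ≫ a₂ = b₁ ≫ inv b₂ := by rw [IsIso.inv_comp_eq, ← Category.assoc, IsIso.eq_comp_inv, hc]
        exact ShortComplex.Splitting.shortExact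
          { r := p₁ ≫ inv a₁
            s := inv b₂ ≫ i₂
            f_r := by
              change F.map S.f ≫ p₁ ≫ inv a₁ = 𝟙 _
              simp [hf, reassoc_of% h11, reassoc_of% h21]
            s_g := by
              change (inv b₂ ≫ i₂) ≫ F.map S.g = 𝟙 _
              simp [hg, reassoc_of% h21, reassoc_of% h22]
            id := by
              have key : (p₁ ≫ inv a₁) ≫ (a₁ ≫ i₁ - a₂ ≫ i₂) + (p₁ ≫ b₁ + p₂ ≫ b₂) ≫ inv b₂ ≫ i₂ = 𝟙 _ := by
                rw [← tot]
                simp only [Preadditive.comp_sub, Preadditive.add_comp, Category.assoc,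
                  IsIso.inv_hom_id_assoc, IsIso.hom_inv_id_assoc, reassoc_of% hcc]
                abel
              refine Eq.trans ?_ key
              rw [← hf, ← hg]
              rfl }
      · have z1 := isZero_stalk_cut (fun h => hxU (hWU h)) M
        have z2 : IsZero (S.map F).X₂ := by
          rw [IsZero.iff_id_eq_zero]
          change 𝟙 (F.obj ((cut U).obj M ⊞ (cut V).obj M)) = 0
          rw [← tot, (isZero_stalk_cut hxU M).eq_of_src i₁ 0, (isZero_stalk_cut hxV M).eq_of_src i₂ 0]
          simp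
        have z3 := isZero_stalk_cut (W := T) (fun h => (hT h).elim hxU hxV) M
        exact { exact := ShortComplex.exact_of_isZero_X₂ _ z2
                mono_f := ⟨fun g h _ => z1.eq_of_tgt g h⟩
                epi_g := ⟨fun g h _ => z3.eq_of_src g h⟩ }
  exact
    { exact := by
        rw [ShortComplex.exact_iff_isZero_homology]
        exact (Stk.isZero_iff _).2 fun x =>
          ((ShortComplex.exact_iff_isZero_homology _).1 (main x).exact).of_iso
            ((mvSeq hWU hWV hUT hVT M).mapHomologyIso (Stk.F X x)).symm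
      mono_f := Preadditive.mono_of_isZero_kernel _ ((Stk.isZero_iff _).2 fun x =>
        haveI : Mono ((Stk.F X x).map (mvSeq hWU hWV hUT hVT M).f) := (main x).mono_f
        (isZero_kernel_of_mono _).of_iso (PreservesKernel.iso (Stk.F X x) _))
      epi_g := Preadditive.epi_of_isZero_cokernel _ ((Stk.isZero_iff _).2 fun x =>
        haveI : Epi ((Stk.F X x).map (mvSeq hWU hWV hUT hVT M).g) := (main x).epi_g
        (isZero_cokernel_of_epi _).of_iso (PreservesCokernel.iso (Stk.F X x) _)) }

end MV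

end Groth.L29.DC.Cpt
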