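import Groth.Agent.L29.DCoh.Cpt.Base
import Groth.Agent.L29.DCoh.EvalPerf
import Groth.Agent.L29.DCoh.LocalLift
import Groth.Agent.L16.ProjSpace.Twist

/-!
Perfect complexes on quasi-compact quasi-separated schemes are small for bounded below families.
-/

set_option autoImplicit false
set_option backward.defeqAttrib.useBackward true
set_option backward.isDefEq.respectTransparency false
set_option backward.isDefEq.respectTransparency.types false

universe u

open CategoryTheory CategoryTheory.Limits AlgebraicGeometry TopologicalSpace Opposite DerivedCategory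

attribute [local instance] HasDerivedCategory.standard

namespace Groth.L29.DC.Cpt

variable {X : Scheme.{u}}

theorem nonempty_free_iso (V : X.Opens) :
    Nonempty (QRlim.free X (V.ι ''ᵁ ⊤) ≅ (cut V).obj (Coh.structureModule X)) := by
  let O := Coh.structureModule X
  let P := (cut V).obj O
  let W : X.Opens := V.ι ''ᵁ ⊤
  let adj := CxOX.extZeroAdj V.ι
  let b : Coh.structureModule (V : Scheme.{u}) ⟶ (ExtZero.res V.ι).obj P :=
    (Scheme.Modules.restrictUnitIso V.ι).inv ≫ adj.unit.app ((ExtZero.res V.ι).obj O)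
  let s₀ : Γ(P, W) := b.app ⊤ (1 : Γ((V : Scheme.{u}), ⊤))
  have hb : ∀ M : X.Modules, Function.Bijective (fun a : P ⟶ M => a.app W s₀) := fun M => by
    have h1 : Function.Bijective (fun a : P ⟶ M => b ≫ (ExtZero.res V.ι).map a) := by
      have : (fun a : P ⟶ M => b ≫ (ExtZero.res V.ι).map a) =
          fun a => (Scheme.Modules.restrictUnitIso V.ι).inv ≫ adj.homEquiv _ _ a := funext fun a => by
        simp only [b, Category.assoc]
        rw [adj.homEquiv_unit]
      rw [this]
      exact (Function.Bijective.comp ⟨fun x y h => (cancel_epi _).1 h,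
        fun y => ⟨(Scheme.Modules.restrictUnitIso V.ι).hom ≫ y, Iso.inv_hom_id_assoc _ y⟩⟩ (adj.homEquiv _ _).bijective)
    have h2 : Function.Bijective (fun g : Coh.structureModule (V : Scheme.{u}) ⟶ (ExtZero.res V.ι).obj M =>
        g.app ⊤ (1 : Γ((V : Scheme.{u}), ⊤))) := ⟨fun f g h => unit_hom_ext f g h, fun t =>
      ⟨Groth.L16.homOfSection _ t, (Groth.L16.homOfSection_app _ t ⊤ 1).trans ((one_smul _ _).trans
        (Groth.L18.Frame.rs_self _ _ _))⟩⟩
    exact h2.comp h1
  let a : QRlim.free X W ⟶ P := (Groth.L10.SiteCover.sec X.sheaf W P).symm s₀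
  obtain ⟨c, hc⟩ := (hb (QRlim.free X W)).2 (Groth.L10.SiteCover.sec X.sheaf W _ (𝟙 _))
  change c.app W s₀ = _ at hc
  refine ⟨⟨a, c, (Groth.L10.SiteCover.sec X.sheaf W _).injective ?_, (hb P).1 ?_⟩⟩
  · refine (Groth.L10.SiteCover.sec_comp X.sheaf W a c).trans ?_
    rw [show Groth.L10.SiteCover.sec X.sheaf W P a = s₀ from Equiv.apply_symm_apply _ _]
    exact hc
  · change a.app W (c.app W s₀) = s₀
    rw [hc]
    exact (Groth.L10.SiteCover.sec_comp X.sheaf W (𝟙 _) a).symm.trans
      ((congrArg _ (Category.id_comp a)).trans (Equiv.apply_symm_apply _ _))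

theorem TS_unit [QuasiSeparatedSpace X] {V : X.Opens} (hV : IsCompact (V : Set X)) : TS V (RHom.O0 X) := by
  obtain ⟨e⟩ := nonempty_free_iso V
  rw [Scheme.Hom.image_top_eq_opensRange, Scheme.Opens.opensRange_ι] at e
  refine (small_free hV ?_).of_iso (Q.mapIso ((HomologicalComplex.single X.Modules (ComplexShape.up ℤ) 0).mapIso e ≪≫
    ((HomologicalComplex.singleMapHomologicalComplex (cut V) (ComplexShape.up ℤ) 0).app (Coh.structureModule X)).symm))
  exact IsQuasiSeparated.of_quasiSeparatedSpace _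

theorem TS_sup [QuasiSeparatedSpace X] (K : CochainComplex X.Modules ℤ) {ι : Type u} (A : ι → X.Opens)
    (hA : ∀ i, IsCompact (A i : Set X)) (hsub : ∀ i (W : X.Opens), IsCompact (W : Set X) → W ≤ A i → TS W K)
    (t : Finset ι) : TS (t.sup A) K := by
  classical
  induction t using Finset.induction_on with
  | empty =>
    rw [Finset.sup_empty]
    refine small_of_isZero (EvalLocal.isZero_Q_of_acyclic fun i => ?_)
    rw [HomologicalComplex.exactAt_iff_isZero_homology]
    exact isZero_homology_cut i fun x hx => absurd hx (by simp)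
  | insert a t ha ih =>
    rw [Finset.sup_insert]
    have ht : IsCompact ((t.sup A : X.Opens) : Set X) := by
      clear ih
      induction t using Finset.induction_on with
      | empty => simp
      | insert b t hb ih' =>
        rw [Finset.sup_insert, Opens.coe_sup]
        exact (hA b).union (ih' (fun h => ha (Finset.mem_insert_of_mem h)))
    refine TS_glue (W := A a ⊓ t.sup A) inf_le_left inf_le_right le_sup_left le_sup_right le_rfl le_rfl K
      (hsub a _ ?_ inf_le_left) (hsub a _ (hA a) le_rfl) ih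
    rw [Opens.coe_inf]
    exact QuasiSeparatedSpace.inter_isCompact _ _ (A a).2 (hA a) (t.sup A).2 ht

/-- the local property -/
def SmallOn {U : Scheme.{u}} (j : U ⟶ X) [IsOpenImmersion j] (K : CochainComplex X.Modules ℤ) : Prop :=
  ∀ V : X.Opens, IsCompact (V : Set X) → (∀ x ∈ V, x ∈ Set.range j.base) → TS V K

theorem locProp_smallOn [QuasiSeparatedSpace X] : EvalPerf.LocProp (X := X) (fun j _ K => SmallOn j K) where
  unit j _ V hV _ := TS_unit hV
  acyclic j _ K _ h V _ hj := TS_of_acyclic j hj h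
  middle j _ S σ h₁ h₃ V hV hj := by
    refine small_of_ses (S := S.map (cutCx V)) ?_ (h₁ V hV hj) (h₃ V hV hj)
    exact HomologicalComplex.shortExact_of_degreewise_shortExact _ fun n => ((σ n).map (cut V)).shortExact
  shift j _ K _ := forall_congr' fun V => forall_congr' fun _ => forall_congr' fun _ => by
    let e : DCoh.toD X ((cutCx V).obj (K⟦(1 : ℤ)⟧)) ≅ (DCoh.toD X ((cutCx V).obj K))⟦(1 : ℤ)⟧ :=
      Q.mapIso (((cutCx V).commShiftIso (1 : ℤ)).app K) ≪≫ (Q.commShiftIso (1 : ℤ)).app _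
    exact ⟨fun h => ((small_shift_iff 1).2 h).of_iso e.symm, fun h => (small_shift_iff 1).1 (h.of_iso e)⟩
  iff j _ K K' g _ _ hg := forall_congr' fun V => forall_congr' fun _ => forall_congr' fun hj => by
    haveI := isIso_Q_cut j hj g hg
    let e := asIso (Q.map ((cutCx V).map g))
    exact ⟨fun h => h.of_iso e, fun h => h.of_iso e.symm⟩
  loc {U} j _ K h V hV hj := by
    classical
    let ι := {B : X.Opens // IsAffineOpen B ∧ B ≤ V ∧ ∀ W : X.Opens, IsCompact (W : Set X) → W ≤ B → TS W K}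
    have hcov : (V : Set X) ⊆ ⋃ i : ι, (i.1 : Set X) := fun x hx => by
      obtain ⟨y, rfl⟩ := hj x hx
      obtain ⟨W, hy, hW⟩ := h y
      obtain ⟨_, ⟨B, hB, rfl⟩, hxB, hBsub⟩ := X.isBasis_affineOpens.exists_subset_of_mem_open
        (show j y ∈ ((V ⊓ j ''ᵁ W : X.Opens) : Set X) from ⟨hx, ⟨y, hy, rfl⟩⟩) (V ⊓ j ''ᵁ W).2
      refine Set.mem_iUnion.2 ⟨⟨B, hB, fun z hz => (hBsub hz).1, fun W' hW' hle => hW W' hW' fun z hz => ?_⟩, hxB⟩
      obtain ⟨w, hw, rfl⟩ := (hBsub (hle hz)).2
      exact ⟨⟨w, hw⟩, rfl⟩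
    obtain ⟨t, ht⟩ := hV.elim_finite_subcover (fun i : ι => (i.1 : Set X)) (fun i => i.1.2) hcov
    have hVeq : t.sup (fun i : ι => i.1) = V := by
      refine le_antisymm (Finset.sup_le fun i _ => i.2.2.1) fun x hx => ?_
      obtain ⟨i, hi, hxi⟩ := Set.mem_iUnion₂.1 (ht hx)
      exact (Finset.le_sup (f := fun i : ι => i.1) hi) hxi
    rw [← hVeq]
    exact TS_sup K _ (fun i => i.2.1.isCompact) (fun i => i.2.2.2) t

/-- perfect complexes are small -/
theorem small_of_isPerfect [CompactSpace X] [QuasiSeparatedSpace X] {K : DCoh.D X} (hK : DCoh.IsPerfect K) :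
    Small K := by
  classical
  let K₁ := (Groth.L00.KFlat.RF X).obj (Q.objPreimage K)
  haveI : IsIso (Q.map ((Groth.L00.KFlat.rF X).app (Q.objPreimage K))) :=
    (isIso_Q_map_iff_quasiIso _ _).2 (Groth.L00.KFlat.quasiIso_rF _)
  let e : DCoh.toD X K₁ ≅ K :=
    asIso (Q.map ((Groth.L00.KFlat.rF X).app (Q.objPreimage K))) ≪≫ Q.objObjPreimageIso K
  have hf : DCoh.IsKFlat K₁ := Groth.L00.KFlat.isKFlat_RF _
  have hp : DCoh.IsPerfect (DCoh.toD X K₁) := isPerfect_of_iso e.symm hK
  have hall : SmallOn (𝟙 X) K₁ := locProp_smallOn.loc (𝟙 X) K₁ fun x => by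
    obtain ⟨V, hx, hV⟩ := EvalPerf.of_perfect locProp_smallOn hf hp x
    exact ⟨V, hx, fun W hW hle => hV W hW fun z hz => by
      obtain ⟨w, rfl⟩ := hle z hz
      exact ⟨w, rfl⟩⟩
  refine Small.of_iso ?_ (hall ⊤ (by simpa using isCompact_univ) fun x _ => ⟨x, rfl⟩)
  haveI : ∀ n, IsIso (((NatTrans.mapHomologicalComplex (cε (⊤ : X.Opens)) (ComplexShape.up ℤ)).app K₁).f n) :=
    fun n => isIso_cε_top (K₁.X n)
  haveI : IsIso ((NatTrans.mapHomologicalComplex (cε (⊤ : X.Opens)) (ComplexShape.up ℤ)).app K₁) :=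
    HomologicalComplex.Hom.isIso_of_components _
  exact Q.mapIso (asIso ((NatTrans.mapHomologicalComplex (cε (⊤ : X.Opens)) (ComplexShape.up ℤ)).app K₁) ≪≫
    (Functor.mapHomologicalComplexIdIso X.Modules (ComplexShape.up ℤ)).app K₁) ≪≫ e

end Groth.L29.DC.Cpt
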