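import Groth.Agent.L29.DCoh.Cpt.Counit
import Groth.Agent.L29.DCoh.EvalMain

/-!
Objects whose maps into bounded below coproducts are finite sums; gluing over two opens.
-/

set_option autoImplicit false
set_option backward.defeqAttrib.useBackward true
set_option backward.isDefEq.respectTransparency false
set_option backward.isDefEq.respectTransparency.types false

universe u

open CategoryTheory CategoryTheory.Limits AlgebraicGeometry TopologicalSpace Pretriangulated DerivedCategory

attribute [local instance] HasDerivedCategory.standard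

namespace Groth.L29.DC.Cpt

variable {X : Scheme.{u}}

/-- finite sums of maps into the summands -/
def IsFin {I : Type u} (C : I → CochainComplex X.Modules ℤ) [HasCoproduct C] {K : DCoh.D X}
    (φ : K ⟶ Q.obj (∐ C)) : Prop :=
  ∃ (s : Finset I) (ψ : ∀ i, K ⟶ Q.obj (C i)), φ = ∑ i ∈ s, ψ i ≫ Q.map (Sigma.ι C i)

section Fin

variable {I : Type u} (C : I → CochainComplex X.Modules ℤ) [HasCoproduct C]

theorem isFin_zero (K : DCoh.D X) : IsFin C (0 : K ⟶ _) := ⟨∅, fun _ => 0, by simp⟩

theorem isFin_comp {K L : DCoh.D X} (g : K ⟶ L) {φ : L ⟶ Q.obj (∐ C)} (h : IsFin C φ) : IsFin C (g ≫ φ) := by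
  obtain ⟨s, ψ, rfl⟩ := h
  exact ⟨s, fun i => g ≫ ψ i, by simp [Preadditive.comp_sum]⟩

theorem isFin_add {K : DCoh.D X} {φ φ' : K ⟶ Q.obj (∐ C)} (h : IsFin C φ) (h' : IsFin C φ') :
    IsFin C (φ + φ') := by
  classical
  obtain ⟨s, ψ, rfl⟩ := h
  obtain ⟨s', ψ', rfl⟩ := h'
  refine ⟨s ∪ s', fun i => (if i ∈ s then ψ i else 0) + (if i ∈ s' then ψ' i else 0), ?_⟩
  simp only [Preadditive.add_comp, Finset.sum_add_distrib]
  congr 1
  · refine Finset.sum_subset_zero_on_sdiff Finset.subset_union_left (fun i hi => ?_) (fun i hi => by simp [hi])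
    simp [(Finset.mem_sdiff.1 hi).2]
  · refine Finset.sum_subset_zero_on_sdiff Finset.subset_union_right (fun i hi => ?_) (fun i hi => by simp [hi])
    simp [(Finset.mem_sdiff.1 hi).2]

/-- the projection to a summand -/
noncomputable def proj (j : I) : Q.obj (∐ C) ⟶ Q.obj (C j) := by
  classical
  exact Q.map (Sigma.desc fun i => if h : i = j then eqToHom (congrArg C h) else 0)

theorem sum_proj {K : DCoh.D X} (s : Finset I) (ψ : ∀ i, K ⟶ Q.obj (C i)) (j : I) (hj : j ∈ s) :
    (∑ i ∈ s, ψ i ≫ Q.map (Sigma.ι C i)) ≫ proj C j = ψ j := by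
  classical
  rw [Preadditive.sum_comp, Finset.sum_eq_single j]
  · simp [proj, ← Functor.map_comp]
  · intro i _ hij
    simp [proj, ← Functor.map_comp, hij]
  · exact fun h => absurd hj h

end Fin

/-- every map of a shift into a uniformly bounded below coproduct is a finite sum -/
def Small (K : DCoh.D X) : Prop :=
  ∀ (I : Type u) (C : I → CochainComplex X.Modules ℤ) [HasCoproduct C] (n : ℤ),
    (∀ i, (DCoh.toD X (C i)).IsGE n) → ∀ (k : ℤ) (φ : K⟦k⟧ ⟶ Q.obj (∐ C)), IsFin C φ

theorem Small.of_iso {K L : DCoh.D X} (e : K ≅ L) (h : Small K) : Small L := fun I C _ n hC k φ => by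
  simpa only [← Functor.mapIso_hom, Iso.inv_hom_id_assoc, ← Functor.mapIso_inv] using
    isFin_comp C ((shiftFunctor _ k).mapIso e).inv (h I C n hC k (((shiftFunctor _ k).mapIso e).hom ≫ φ))

theorem small_of_isZero {K : DCoh.D X} (h : IsZero K) : Small K := fun I C _ n _ k φ => by
  rw [((shiftFunctor (DCoh.D X) k).map_isZero h).eq_of_src φ 0]
  exact isFin_zero C _

theorem Small.shift {K : DCoh.D X} (h : Small K) (m : ℤ) : Small (K⟦m⟧) := fun I C _ n hC k φ => by
  let e : K⟦m + k⟧ ≅ (K⟦m⟧)⟦k⟧ := (shiftFunctorAdd (DCoh.D X) m k).app K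
  simpa only [Iso.inv_hom_id_assoc] using isFin_comp C e.inv (h I C n hC (m + k) (e.hom ≫ φ))

theorem small_shift_iff {K : DCoh.D X} (m : ℤ) : Small (K⟦m⟧) ↔ Small K :=
  ⟨fun h => (h.shift (-m)).of_iso ((shiftEquiv _ m).unitIso.symm.app K), fun h => h.shift m⟩

theorem small_middle (T : Triangle (DCoh.D X)) (hT : T ∈ distTriang _) (h₁ : Small T.obj₁)
    (h₃ : Small T.obj₃) : Small T.obj₂ := by
  intro I C _ n hC k φ
  let T' := (Triangle.shiftFunctor (DCoh.D X) k).obj T
  change T'.obj₂ ⟶ Q.obj (∐ C) at φ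
  have hT' : T' ∈ distTriang _ := Triangle.shift_distinguished T hT k
  obtain ⟨s, ψ, hψ⟩ := h₁ I C n hC k (T'.mor₁ ≫ φ)
  have hi : ∀ i, i ∈ s → ∃ g : T'.obj₂ ⟶ Q.obj (C i), ψ i = T'.mor₁ ≫ g := fun i hi => by
    refine Triangle.yoneda_exact₂ T'.invRotate (inv_rot_of_distTriang _ hT') (ψ i) ?_
    have h0 := comp_distTriang_mor_zero₁₂ T'.invRotate (inv_rot_of_distTriang _ hT')
    rw [← sum_proj C s ψ i hi, ← hψ]
    change T'.invRotate.mor₁ ≫ (T'.invRotate.mor₂ ≫ φ) ≫ _ = 0
    simp only [← Category.assoc, h0, zero_comp]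
  choose! g hg using hi
  obtain ⟨χ, hχ⟩ : ∃ χ : T'.obj₃ ⟶ Q.obj (∐ C), φ - ∑ i ∈ s, g i ≫ Q.map (Sigma.ι C i) = T'.mor₂ ≫ χ := by
    refine Triangle.yoneda_exact₂ T' hT' _ ?_
    rw [Preadditive.comp_sub, Preadditive.comp_sum, sub_eq_zero]
    refine hψ.trans (Finset.sum_congr rfl fun i hi => ?_)
    rw [hg i hi, Category.assoc]
  rw [sub_eq_iff_eq_add] at hχ
  rw [hχ]
  exact isFin_add C (isFin_comp C _ (h₃ I C n hC k χ)) ⟨s, g, rfl⟩

theorem small_of_ses {S : ShortComplex (CochainComplex X.Modules ℤ)} (hS : S.ShortExact)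
    (h₁ : Small (DCoh.toD X S.X₁)) (h₃ : Small (DCoh.toD X S.X₃)) : Small (DCoh.toD X S.X₂) :=
  small_middle _ (triangleOfSES_distinguished hS) h₁ h₃

theorem small_third_of_ses {S : ShortComplex (CochainComplex X.Modules ℤ)} (hS : S.ShortExact)
    (h₁ : Small (DCoh.toD X S.X₁)) (h₂ : Small (DCoh.toD X S.X₂)) : Small (DCoh.toD X S.X₃) :=
  small_middle _ (rot_of_distTriang _ (triangleOfSES_distinguished hS)) h₂ (h₁.shift 1)

section Cut

open Groth.L00

instance preservesFiniteLimits_extZero {U : Scheme.{u}} (j : U ⟶ X) [IsOpenImmersion j] :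
    PreservesFiniteLimits (CxOX.extZero j) :=
  ExtZero.preservesFiniteLimits j

/-- the cut-off of complexes -/
noncomputable abbrev cutCx (V : X.Opens) : CochainComplex X.Modules ℤ ⥤ CochainComplex X.Modules ℤ :=
  (cut V).mapHomologicalComplex (ComplexShape.up ℤ)

/-- the cut-off of `K` to `V` is small -/
def TS (V : X.Opens) (K : CochainComplex X.Modules ℤ) : Prop := Small (DCoh.toD X ((cutCx V).obj K))

theorem isZero_homology_cut {V : X.Opens} {K : CochainComplex X.Modules ℤ} (i : ℤ)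
    (h : ∀ x ∈ V, IsZero ((Stk.F X x).obj (K.homology i))) : IsZero (((cutCx V).obj K).homology i) :=
  (isZero_cut h).of_iso ((K.sc i).mapHomologyIso (cut V))

theorem acyclic_cut {U : Scheme.{u}} (j : U ⟶ X) [IsOpenImmersion j] {V : X.Opens}
    (hV : ∀ x ∈ V, x ∈ Set.range j.base) {K : CochainComplex X.Modules ℤ}
    (h : ((ExtZero.rCx j).obj K).Acyclic) : ((cutCx V).obj K).Acyclic := fun i => by
  rw [HomologicalComplex.exactAt_iff_isZero_homology]
  refine isZero_homology_cut i fun x hx => ?_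
  obtain ⟨y, rfl⟩ := hV x hx
  exact isZero_stalk_of_res j _ (((HomologicalComplex.exactAt_iff_isZero_homology _ _).1 (h i)).of_iso
    ((K.sc i).mapHomologyIso (ExtZero.res j)).symm) y

theorem TS_of_acyclic {U : Scheme.{u}} (j : U ⟶ X) [IsOpenImmersion j] {V : X.Opens}
    (hV : ∀ x ∈ V, x ∈ Set.range j.base) {K : CochainComplex X.Modules ℤ}
    (h : ((ExtZero.rCx j).obj K).Acyclic) : TS V K :=
  small_of_isZero (EvalLocal.isZero_Q_of_acyclic (acyclic_cut j hV h))

theorem isIso_Q_cut {U : Scheme.{u}} (j : U ⟶ X) [IsOpenImmersion j] {V : X.Opens}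
    (hV : ∀ x ∈ V, x ∈ Set.range j.base) {K K' : CochainComplex X.Modules ℤ} (g : K ⟶ K')
    (hg : QuasiIso ((ExtZero.rCx j).map g)) : IsIso (DerivedCategory.Q.map ((cutCx V).map g)) := by
  refine (EvalLocal.acyclic_cone_iff _).1 (Eval.acyclic_of_iso (CochainComplex.mappingCone.mapHomologicalComplexIso g (cut V))
    (acyclic_cut j hV ?_))
  exact Eval.acyclic_of_iso (CochainComplex.mappingCone.mapHomologicalComplexIso g (ExtZero.res j)).symm
    ((EvalLocal.acyclic_cone_iff _).2 ((isIso_Q_map_iff_quasiIso _ _).2 hg))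

theorem shortExact_of_app {F₁ F₂ F₃ : X.Modules ⥤ X.Modules} [F₁.Additive] [F₂.Additive] [F₃.Additive]
    (f : F₁ ⟶ F₂) (g : F₂ ⟶ F₃) (w : ∀ M, f.app M ≫ g.app M = 0)
    (h : ∀ M, (ShortComplex.mk (f.app M) (g.app M) (w M)).ShortExact) (K : CochainComplex X.Modules ℤ) :
    ∃ z, (ShortComplex.mk ((NatTrans.mapHomologicalComplex f (ComplexShape.up ℤ)).app K)
      ((NatTrans.mapHomologicalComplex g (ComplexShape.up ℤ)).app K) z).ShortExact :=
  ⟨HomologicalComplex.hom_ext _ _ fun n => w (K.X n), HomologicalComplex.shortExact_of_degreewise_shortExact _ fun n => h (K.X n)⟩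

variable {W U V T : X.Opens}

/-- the middle term of the two-open sequence -/
@[simps]
noncomputable def mid (U V : X.Opens) : X.Modules ⥤ X.Modules where
  obj M := (cut U).obj M ⊞ (cut V).obj M
  map g := biprod.map ((cut U).map g) ((cut V).map g)
  map_id M := by
    apply biprod.hom_ext' <;> simp
  map_comp g g' := by
    apply biprod.hom_ext' <;> simp

instance additive_mid : (mid U V).Additive where
  map_add {M N} {f g} := by
    apply biprod.hom_ext' <;> simp [(cut U).map_add, (cut V).map_add]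

theorem TS_glue (hWU : W ≤ U) (hWV : W ≤ V) (hUT : U ≤ T) (hVT : V ≤ T) (hW : U ⊓ V ≤ W) (hT : T ≤ U ⊔ V)
    (K : CochainComplex X.Modules ℤ) (h₀ : TS W K) (h₁ : TS U K) (h₂ : TS V K) : TS T K := by
  let a : cut W ⟶ mid U V :=
    { app := fun M => biprod.lift ((ctr hWU).app M) (-(ctr hWV).app M)
      naturality := fun M N g => by
        refine biprod.hom_ext _ _ ?_ ?_
        · simp only [mid, Category.assoc, biprod.lift_fst, biprod.map_fst, biprod.lift_fst_assoc]
          exact (ctr hWU).naturality g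
        · simp only [mid, Category.assoc, biprod.lift_snd, biprod.map_snd, biprod.lift_snd_assoc,
            Preadditive.comp_neg, Preadditive.neg_comp]
          exact congrArg Neg.neg ((ctr hWV).naturality g) }
  let b : mid U V ⟶ cut T :=
    { app := fun M => biprod.desc ((ctr hUT).app M) ((ctr hVT).app M)
      naturality := fun M N g => by
        refine biprod.hom_ext' _ _ ?_ ?_
        · simp only [mid, biprod.inl_map_assoc, biprod.inl_desc, biprod.inl_desc_assoc]
          exact (ctr hUT).naturality g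
        · simp only [mid, biprod.inr_map_assoc, biprod.inr_desc, biprod.inr_desc_assoc]
          exact (ctr hVT).naturality g }
  let i : cut U ⟶ mid U V := { app := fun M => biprod.inl }
  let p : mid U V ⟶ cut V := { app := fun M => biprod.snd }
  obtain ⟨z, hz⟩ := shortExact_of_app i p (fun M => biprod.inl_snd)
    (fun M => (ShortComplex.Splitting.ofHasBinaryBiproduct _ _).shortExact) K
  obtain ⟨z', hz'⟩ := shortExact_of_app a b (fun M => (mvSeq hWU hWV hUT hVT M).zero)
    (fun M => shortExact_mvSeq hWU hWV hUT hVT hW hT M) K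
  have h := small_of_ses hz h₁ h₂
  exact small_third_of_ses hz' h₀ h

end Cut

end Groth.L29.DC.Cpt
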