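import Groth.Agent.L29.DCoh.Cpt.Main
import Groth.Agent.L29.DCoh.TildeAlg
import Groth.Agent.L17.AffineVanishing
import Groth.Agent.L29.DCoh.RpushCoprod
import Groth.Prelude.Def_CohDer

/-!
Maps out of perfect complexes into very negative objects; compactness for unbounded families.
-/

set_option autoImplicit false
set_option backward.defeqAttrib.useBackward true
set_option backward.isDefEq.respectTransparency false
set_option backward.isDefEq.respectTransparency.types false

universe u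

open CategoryTheory CategoryTheory.Limits AlgebraicGeometry TopologicalSpace Opposite DerivedCategory

attribute [local instance] HasDerivedCategory.standard

namespace Groth.L29.DC.Cpt

open Groth.L10

variable {X : Scheme.{u}}

local notation "tt" => DerivedCategory.TStructure.t

theorem nonempty_free_top : Nonempty (QRlim.free X (⊤ : X.Opens) ≅ Coh.structureModule X) := by
  obtain ⟨e⟩ := nonempty_free_iso (⊤ : X.Opens)
  rw [Scheme.Hom.image_top_eq_opensRange, Scheme.Opens.opensRange_ι] at e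
  haveI := isIso_cε_top (Coh.structureModule X)
  exact ⟨e ≪≫ asIso ((cε (⊤ : X.Opens)).app _)⟩

/-- finite cohomological dimension kills maps from the unit to very negative objects -/
theorem unit_hom_zero {d : ℕ} (hd : ∀ (F : X.Modules) (i : ℕ), d < i → Subsingleton (Coh.HH X F i))
    (L : DCoh.D X) (c : ℤ) (hL : L.IsLE c) (hc : c + (d : ℤ) < 0)
    (g : DCoh.toD X (RHom.O0 X) ⟶ L) : g = 0 := by
  obtain ⟨_, _, _⟩ := Groth.L10.ModRDer.insts X.sheaf
  haveI := Groth.L00.Tensor.grothendieckAbelian_modules X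
  obtain ⟨e₀⟩ := nonempty_free_top (X := X)
  let P := QRlim.free X (⊤ : X.Opens)
  have hsm : ∀ M : X.Modules, TowerStab.Small d P M := fun M =>
    SiteCover.small_of_HU X.sheaf (⊤ : X.Opens) M d fun k hk =>
      @Equiv.subsingleton _ _ (Groth.L17.hTopEquiv (X := X.toTopCat) (Coh.toAb M) k).toEquiv.symm (hd M k hk)
  obtain ⟨N, r, hN⟩ := Groth.L10.KInjFunctorial.exists_functorial (A := X.Modules)
  obtain ⟨-, hr, hK, hinj⟩ := hN (Q.objPreimage L)
  haveI := hr
  haveI := hK
  let J := N.obj (Q.objPreimage L)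
  haveI : IsIso (Q.map (r.app (Q.objPreimage L))) := (isIso_Q_map_iff_quasiIso _ _).2 hr
  let eL : DCoh.toD X J ≅ L := (asIso (Q.map (r.app (Q.objPreimage L)))).symm ≪≫ Q.objObjPreimageIso L
  let S := (HomologicalComplex.single X.Modules (ComplexShape.up ℤ) 0).obj P
  let eO : DCoh.toD X (RHom.O0 X) ≅ DCoh.toD X S :=
    Q.mapIso ((HomologicalComplex.single X.Modules (ComplexShape.up ℤ) 0).mapIso e₀.symm)
  rw [← cancel_epi eO.inv, ← cancel_mono eL.inv]
  simp only [zero_comp, comp_zero, Category.assoc]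
  suffices h : ∀ φ : Q.obj S ⟶ Q.obj J, φ = 0 from h _
  intro φ
  obtain ⟨χ, hχ⟩ := (CochainComplex.IsKInjective.Qh_map_bijective _ J).surjective
    ((quotientCompQhIso X.Modules).hom.app S ≫ φ ≫ (quotientCompQhIso X.Modules).inv.app J)
  obtain ⟨f, rfl⟩ := (HomotopyCategory.quotient _ _).map_surjective χ
  have hf : φ = Q.map f := by
    have := (quotientCompQhIso X.Modules).hom.naturality f
    dsimp only [Functor.comp_map] at this
    rw [hχ, Category.assoc, Category.assoc, Iso.inv_hom_id_app] at this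
    rw [← cancel_epi ((quotientCompQhIso X.Modules).hom.app S), ← this]
    simp
  obtain ⟨m, hm, hm1, hmc⟩ : ∃ m : ℕ, d < m ∧ 1 ≤ m ∧ c ≤ -(m : ℤ) := ⟨d + 1, by omega, by omega, by omega⟩
  let b := brutal J (-(m : ℤ))
  haveI : b.IsStrictlyGE (-(m : ℤ)) :=
    (CochainComplex.isStrictlyGE_iff _ _).2 fun i hi => isZero_brutal_X J _ hi
  have hLz : ∀ i, -(m : ℤ) < i → IsZero ((homologyFunctor X.Modules i).obj (DCoh.toD X J)) := fun i hi => by
    haveI : DerivedCategory.TStructure.t.IsLE L c := hL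
    haveI : (DCoh.toD X J).IsLE c := DerivedCategory.TStructure.t.isLE_of_iso eL.symm c
    exact DerivedCategory.isZero_of_isLE (DCoh.toD X J) c i (by omega)
  have hbLE : (DCoh.toD X b).IsLE (-(m : ℤ)) := (DerivedCategory.isLE_iff _ _).2 fun i hi => by
    haveI := (approx_brutalι J (-(m : ℤ))).1 i hi
    exact (hLz i hi).of_iso (asIso ((homologyFunctor X.Modules i).map (Q.map (brutalι J (-(m : ℤ))))))
  have hbGE : (DCoh.toD X b).IsGE (-(m : ℤ)) := inferInstanceAs ((Q.obj b).IsGE (-(m : ℤ)))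
  obtain ⟨e₁⟩ := Groth.L10.exists_iso_single_H (DCoh.toD X b) (-(m : ℤ))
  let e₂ : DCoh.toD X b ≅ ((singleFunctor X.Modules 0).obj ((homologyFunctor X.Modules (-(m : ℤ))).obj (DCoh.toD X b)))⟦(m : ℤ)⟧ :=
    e₁ ≪≫ (((singleFunctors X.Modules).shiftIso (m : ℤ) (-(m : ℤ)) 0 (by omega)).app _).symm
  haveI := isIso_brutalι J (-(m : ℤ)) (i := 0) (by omega)
  haveI := isIso_brutalι J (-(m : ℤ)) (i := 1) (by omega)
  let fb : S ⟶ b := HomologicalComplex.mkHomFromSingle
    ((HomologicalComplex.singleObjXSelf (ComplexShape.up ℤ) 0 P).inv ≫ f.f 0 ≫ inv ((brutalι J (-(m : ℤ))).f 0))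
    (fun k hk => by
      obtain rfl : k = 1 := by simp at hk; omega
      rw [← cancel_mono ((brutalι J (-(m : ℤ))).f 1), zero_comp]
      have hc : b.d 0 1 ≫ (brutalι J (-(m : ℤ))).f 1 = (brutalι J (-(m : ℤ))).f 0 ≫ J.d 0 1 :=
        ((brutalι J (-(m : ℤ))).comm 0 1).symm
      simp only [Category.assoc, hc, IsIso.inv_hom_id_assoc, f.comm 0 1]
      simp [S])
  have hfb : f = fb ≫ brutalι J (-(m : ℤ)) := by
    refine HomologicalComplex.from_single_hom_ext ?_
    rw [← cancel_epi (HomologicalComplex.singleObjXSelf (ComplexShape.up ℤ) 0 P).inv]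
    simp [fb]
  let eS : (singleFunctor X.Modules 0).obj P ≅ Q.obj S := (singleFunctorIsoCompQ X.Modules 0).app P
  have h0 : eS.hom ≫ Q.map fb ≫ e₂.hom = 0 := hsm _ (m : ℤ) (by omega) _
  rw [← Category.assoc, ← cancel_mono e₂.inv, zero_comp, Category.assoc, Iso.hom_inv_id, Category.comp_id,
    ← cancel_epi eS.inv, Iso.inv_hom_id_assoc, comp_zero] at h0
  rw [hf, hfb, Functor.map_comp, h0, zero_comp]

/-- maps out of a perfect complex are computed by internal Hom -/
theorem hom_zero_of_unit {K : DCoh.D X} (hK : DCoh.IsPerfect K) [CompactSpace X]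
    (Pp : DCoh.D X → Prop) (c : ℤ)
    (hP : ∀ L, Pp L → L.IsLE c → ∀ g : DCoh.toD X (RHom.O0 X) ⟶ L, g = 0) :
    ∃ (c₀ : ℤ) (D : CochainComplex X.Modules ℤ) (_ : DCoh.HasLTensorCx D),
      DCoh.IsKFlat D ∧ DCoh.IsPerfect (DCoh.toD X D) ∧ ∀ L : DCoh.D X, L.IsLE c₀ →
        Pp ((DCoh.LTensorCx D).obj L) → ∀ g : K ⟶ L, g = 0 := by
  let K₁ := (Groth.L00.KFlat.RF X).obj (Q.objPreimage K)
  haveI : IsIso (Q.map ((Groth.L00.KFlat.rF X).app (Q.objPreimage K))) :=
    (isIso_Q_map_iff_quasiIso _ _).2 (Groth.L00.KFlat.quasiIso_rF _)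
  let e : DCoh.toD X K₁ ≅ K :=
    asIso (Q.map ((Groth.L00.KFlat.rF X).app (Q.objPreimage K))) ≪≫ Q.objObjPreimageIso K
  have hf : DCoh.IsKFlat K₁ := Groth.L00.KFlat.isKFlat_RF _
  have hp : DCoh.IsPerfect (DCoh.toD X K₁) := isPerfect_of_iso e.symm hK
  haveI := Groth.L00.KFlat.hasLTensorCx K₁
  haveI := RHom.hasRSheafHom K₁
  let D₀ := Q.objPreimage ((DCoh.RSheafHom K₁).obj (DCoh.toD X (RHom.O0 X)))
  let D := (Groth.L00.KFlat.RF X).obj D₀
  haveI : IsIso (Q.map ((Groth.L00.KFlat.rF X).app D₀)) :=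
    (isIso_Q_map_iff_quasiIso _ _).2 (Groth.L00.KFlat.quasiIso_rF _)
  let eD : DCoh.toD X D ≅ (DCoh.RSheafHom K₁).obj (DCoh.toD X (RHom.O0 X)) :=
    asIso (Q.map ((Groth.L00.KFlat.rF X).app D₀)) ≪≫ Q.objObjPreimageIso _
  have hDf : DCoh.IsKFlat D := Groth.L00.KFlat.isKFlat_RF _
  have hDp : DCoh.IsPerfect (DCoh.toD X D) := isPerfect_of_iso eD.symm (EvalMain.isPerfect_dual K₁ hf hp)
  haveI := Groth.L00.KFlat.hasLTensorCx D
  obtain ⟨b, hb⟩ := TildeAlg.exists_isZero (m := 0) (pc_of_perfect hDp 0)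
  refine ⟨c - b, D, inferInstance, hDf, hDp, fun L hL hPL g => ?_⟩
  have hD : (DCoh.toD X D).IsLE b := (DerivedCategory.isLE_iff _ _).2 fun i hi => hb i hi.le
  have hle : ((DCoh.LTensorCx D).obj L).IsLE c := by
    have := RHom.isLE_LTensorCx D b hD L (c - b) hL
    rwa [sub_add_cancel] at this
  obtain ⟨w⟩ := EvalMain.nonempty_dual K₁ D hf hp hDf ⟨eD⟩ L
  let u : DCoh.toD X K₁ ≅ (DCoh.LTensorCx K₁).obj (DCoh.toD X (RHom.O0 X)) :=
    Q.mapIso ((RHom.flipIso (RHom.O0 X) ≪≫ RHom.unitCxIso).app K₁).symm ≪≫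
      ((Assoc.allIso K₁ hf).app (RHom.O0 X)).symm
  have h0 : (DCoh.RSheafHomAdj K₁).homEquiv _ _ (u.inv ≫ e.hom ≫ g) = 0 := by
    rw [← cancel_mono w.inv, zero_comp]
    exact hP _ hPL hle _
  haveI := FiveRight.additive_left (DCoh.RSheafHomAdj K₁)
  have h1 := congrArg ((DCoh.RSheafHomAdj K₁).homEquiv _ _).symm h0
  rw [Equiv.symm_apply_apply, RHomExact.symm_zero] at h1
  rw [← cancel_epi e.hom, ← cancel_epi u.inv, h1, comp_zero, comp_zero]

/-- compactness for unbounded families from vanishing below -/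
theorem isFin_of_vanish {K : DCoh.D X} (hK : Small K) {I : Type u} (C : I → CochainComplex X.Modules ℤ)
    [HasCoproduct C] (b : ℤ)
    (h₁ : ∀ i (g : K ⟶ (((tt).truncLT b).obj (DCoh.toD X (C i)))⟦(1 : ℤ)⟧), g = 0)
    (h₂ : ∀ g : K ⟶ ((tt).truncLT b).obj (Q.obj (∐ C)), g = 0) (φ : K ⟶ Q.obj (∐ C)) : IsFin C φ := by
  classical
  haveI := Groth.L00.Tensor.grothendieckAbelian_modules X
  let C' : I → CochainComplex X.Modules ℤ := fun i => CochainComplex.truncGE (C i) b
  let π := fun i => CochainComplex.πTruncGE (C i) b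
  let q : ∐ C ⟶ ∐ C' := Limits.Sigma.map π
  have hC' : ∀ i, (DCoh.toD X (C' i)).IsGE b := fun i => inferInstanceAs ((Q.obj (C' i)).IsGE b)
  have hπ : ∀ i (j : ℤ), b ≤ j → IsIso (HomologicalComplex.homologyMap (π i) j) := fun i j hj => by
    haveI : QuasiIsoAt (π i) j := CochainComplex.quasiIsoAt_πTruncGE (C i) b j hj
    exact (quasiIsoAt_iff_isIso_homologyMap _ j).1 inferInstance
  have hGE : ∀ {A B : DCoh.D X} (f : A ⟶ B), (∀ j, b ≤ j → IsIso ((homologyFunctor X.Modules j).map f)) →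
      B.IsGE b → ∀ ξ : K ⟶ A, ξ ≫ f = 0 → ξ ≫ ((tt).truncGEπ b).app A = 0 := fun {A B} f hf hB ξ hξ => by
    haveI : IsIso (((tt).truncGE b).map f) := by
      rw [DerivedCategory.isIso_iff]
      intro j
      by_cases hj : b ≤ j
      · have := hf j hj
        have := Groth.L10.isIso_H_π b j hj A
        have := Groth.L10.isIso_H_π b j hj B
        refine IsIso.of_isIso_fac_left (f := (homologyFunctor X.Modules j).map (((tt).truncGEπ b).app A))
          (h := (homologyFunctor X.Modules j).map f ≫ (homologyFunctor X.Modules j).map (((tt).truncGEπ b).app B)) ?_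
        rw [← Functor.map_comp, ← Functor.map_comp]
        exact congrArg _ (((tt).truncGEπ b).naturality f).symm
      · exact ⟨0, (Groth.L10.isZero_H_GE b j (by omega) A).eq_of_src _ _,
          (Groth.L10.isZero_H_GE b j (by omega) B).eq_of_src _ _⟩
    rw [← cancel_mono (((tt).truncGE b).map f), zero_comp, Category.assoc]
    refine (congrArg (ξ ≫ ·) (((tt).truncGEπ b).naturality f).symm).trans ?_
    change ξ ≫ f ≫ _ = 0
    rw [reassoc_of% hξ, zero_comp]
  have hlift : ∀ i (ψ' : K ⟶ Q.obj (C' i)), ∃ ψ : K ⟶ Q.obj (C i), ψ ≫ Q.map (π i) = ψ' := fun i ψ' => by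
    haveI : IsIso (((tt).truncGEπ b).app (Q.obj (C' i))) := by
      haveI : (tt).IsGE (Q.obj (C' i)) b := hC' i
      exact ((tt).isGE_iff_isIso_truncGEπ_app b _).1 inferInstance
    haveI : IsIso (((tt).truncGE b).map (Q.map (π i))) := by
      rw [DerivedCategory.isIso_iff]
      intro j
      by_cases hj : b ≤ j
      · have : IsIso ((homologyFunctor X.Modules j).map (Q.map (π i))) :=
          (NatIso.isIso_map_iff (homologyFunctorFactors X.Modules j) (π i)).2 (hπ i j hj)
        have := Groth.L10.isIso_H_π b j hj (Q.obj (C i))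
        refine IsIso.of_isIso_fac_left (f := (homologyFunctor X.Modules j).map (((tt).truncGEπ b).app (Q.obj (C i))))
          (h := (homologyFunctor X.Modules j).map (Q.map (π i)) ≫
            (homologyFunctor X.Modules j).map (((tt).truncGEπ b).app (Q.obj (C' i)))) ?_
        rw [← Functor.map_comp, ← Functor.map_comp]
        exact congrArg _ (((tt).truncGEπ b).naturality (Q.map (π i))).symm
      · exact ⟨0, (Groth.L10.isZero_H_GE b j (by omega) _).eq_of_src _ _,
          (Groth.L10.isZero_H_GE b j (by omega) _).eq_of_src _ _⟩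
    let χ := ψ' ≫ ((tt).truncGEπ b).app _ ≫ inv (((tt).truncGE b).map (Q.map (π i)))
    obtain ⟨ψ, hψ⟩ := Pretriangulated.Triangle.coyoneda_exact₃ _ ((tt).triangleLTGE_distinguished b (Q.obj (C i))) χ (h₁ i _)
    change χ = ψ ≫ ((tt).truncGEπ b).app (Q.obj (C i)) at hψ
    refine ⟨ψ, ?_⟩
    rw [← cancel_mono (((tt).truncGEπ b).app (Q.obj (C' i))), Category.assoc]
    refine (congrArg (ψ ≫ ·) (((tt).truncGEπ b).naturality (Q.map (π i)))).trans ?_
    rw [← Category.assoc, ← hψ]
    simp [χ]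
    rfl
  obtain ⟨s, ψ', hψ'⟩ := hK I C' b hC' 0 ((shiftFunctorZero (DCoh.D X) ℤ).hom.app K ≫ φ ≫ Q.map q)
  choose ψ hψ using fun i => hlift i ((shiftFunctorZero (DCoh.D X) ℤ).inv.app K ≫ ψ' i)
  refine ⟨s, ψ, sub_eq_zero.1 ?_⟩
  have hq : ∀ j, b ≤ j → IsIso ((homologyFunctor X.Modules j).map (Q.map q)) := fun j hj => by
    refine (NatIso.isIso_map_iff (homologyFunctorFactors X.Modules j) q).2 ?_
    haveI := HomologyColim.preservesColimitsOfShape_homology (A := X.Modules) (J := Discrete I) (ComplexShape.up ℤ) j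
    let H := HomologicalComplex.homologyFunctor X.Modules (ComplexShape.up ℤ) j
    let ν : Discrete.functor C ⋙ H ≅ Discrete.functor C' ⋙ H := Discrete.natIso fun i =>
      haveI : IsIso (H.map (π i.as)) := hπ i.as j hj
      asIso (H.map (π i.as))
    have e : H.map q = ((isColimitOfPreserves H (colimit.isColimit (Discrete.functor C))).coconePointsIsoOfNatIso
        (isColimitOfPreserves H (colimit.isColimit (Discrete.functor C'))) ν).hom :=
      (isColimitOfPreserves H (colimit.isColimit (Discrete.functor C))).hom_ext fun i => by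
        rw [IsColimit.comp_coconePointsIsoOfNatIso_hom]
        simp only [Functor.mapCocone_ι_app, ν, Discrete.natIso_hom_app, asIso_hom, ← Functor.map_comp]
        exact congrArg H.map (Sigma.ι_map π i.as)
    change IsIso (H.map q)
    rw [e]
    infer_instance
  have hq' : (Q.obj (∐ C')).IsGE b := (DerivedCategory.isGE_iff _ _).2 fun j hj => by
    haveI := HomologyColim.preservesColimitsOfShape_homology (A := X.Modules) (J := Discrete I) (ComplexShape.up ℤ) j
    refine IsZero.of_iso ?_ ((homologyFunctorFactors X.Modules j).app (∐ C'))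
    refine IsColimit.isZero_pt (isColimitOfPreserves (HomologicalComplex.homologyFunctor X.Modules (ComplexShape.up ℤ) j)
      (colimit.isColimit (Discrete.functor C'))) (Functor.isZero _ fun i => ?_)
    haveI := hC' i.as
    exact (DerivedCategory.isZero_of_isGE (DCoh.toD X (C' i.as)) b j hj).of_iso
      ((homologyFunctorFactors X.Modules j).app (C' i.as)).symm
  have hz := hGE (Q.map q) hq hq' (φ - ∑ i ∈ s, ψ i ≫ Q.map (Sigma.ι C i)) (by
    rw [Preadditive.sub_comp, sub_eq_zero, Preadditive.sum_comp]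
    rw [← cancel_epi ((shiftFunctorZero (DCoh.D X) ℤ).hom.app K), hψ', Preadditive.comp_sum]
    refine Finset.sum_congr rfl fun i _ => ?_
    have : Q.map (Sigma.ι C i) ≫ Q.map q = Q.map (π i) ≫ Q.map (Sigma.ι C' i) := by
      simp [q, ← Functor.map_comp]
    simp [this, reassoc_of% (hψ i)])
  obtain ⟨g, hg⟩ := Pretriangulated.Triangle.coyoneda_exact₂ _ ((tt).triangleLTGE_distinguished b (Q.obj (∐ C))) _ hz
  rw [hg, h₂ g, zero_comp]

/-- from finite sums to the direct sum map -/
theorem bijective_homSum {K : DCoh.D X} {I : Type u} (M : I → DCoh.D X)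
    [HasCoproduct fun i : ULift.{u + 1} I => M i.down]
    (h : ∀ [HasCoproduct fun i => Q.objPreimage (M i)] (φ : K ⟶ Q.obj (∐ fun i => Q.objPreimage (M i))),
      IsFin (fun i => Q.objPreimage (M i)) φ) :
    Function.Bijective (CohDer.homSumToHomCoprod K (fun i : ULift.{u + 1} I => M i.down)) := by
  classical
  haveI := Groth.L00.Tensor.grothendieckAbelian_modules X
  let M' := fun i : ULift.{u + 1} I => M i.down
  let Φ := CohDer.homSumToHomCoprod K M'
  have hof : ∀ i (g : K ⟶ M' i), Φ (DirectSum.of _ i g) = g ≫ Sigma.ι M' i := fun i g => by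
    change (DirectSum.toAddMonoid fun i => Preadditive.rightComp K (Sigma.ι M' i)) (DirectSum.of _ i g) = _
    exact DirectSum.toAddMonoid_of _ _ _
  refine ⟨(injective_iff_map_eq_zero Φ).2 fun x hx => ?_, fun φ => ?_⟩
  · refine DFinsupp.ext fun j => ?_
    let p : ∐ M' ⟶ M' j := Sigma.desc fun i => if h : i = j then eqToHom (congrArg M' h) else 0
    have hp : ∀ y, Φ y ≫ p = y j := fun y => by
      induction y using DirectSum.induction_on with
      | zero => simp
      | of i g =>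
        rw [hof, Category.assoc, Sigma.ι_desc]
        by_cases hij : i = j
        · subst hij
          simp
        · simp [hij, DirectSum.of_eq_of_ne _ _ _ (Ne.symm hij)]
      | add y z hy hz => simp [hy, hz]
    simpa [hx] using (hp x).symm
  · let C := fun i => Q.objPreimage (M i)
    let e := fun i => Q.objObjPreimageIso (M i)
    let θ : ∐ M' ⟶ Q.obj (∐ C) := Sigma.desc fun i => (e i.down).inv ≫ Q.map (Sigma.ι C i.down)
    obtain ⟨h1⟩ := RpushColim.isColimit_Q_cofan C
    let θ' : Q.obj (∐ C) ⟶ ∐ M' := Cofan.IsColimit.desc h1 fun i => (e i).hom ≫ Sigma.ι M' ⟨i⟩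
    have hθ' : ∀ i, Q.map (Sigma.ι C i) ≫ θ' = (e i).hom ≫ Sigma.ι M' ⟨i⟩ := fun i =>
      Cofan.IsColimit.fac h1 _ i
    have hid : θ ≫ θ' = 𝟙 _ := Sigma.hom_ext _ _ fun i => by
      simp only [θ, Sigma.ι_desc_assoc, Category.assoc, hθ', Iso.inv_hom_id_assoc, Category.comp_id]
    obtain ⟨s, ψ, hψ⟩ := h (φ ≫ θ)
    refine ⟨∑ i ∈ s, DirectSum.of (fun i => K ⟶ M' i) ⟨i⟩ (ψ i ≫ (e i).hom), ?_⟩
    rw [map_sum, ← Category.comp_id φ, ← hid, ← Category.assoc, hψ, Preadditive.sum_comp]
    refine Finset.sum_congr rfl fun i _ => ?_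
    exact (hof _ _).trans ((Category.assoc _ _ _).trans ((congrArg (ψ i ≫ ·) (hθ' i).symm).trans (Category.assoc _ _ _).symm))

end Groth.L29.DC.Cpt
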